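import Cfsg.Agent.H51.Bryu.Main
import Cfsg.Agent.H58.Bryu.FixMem

/-!
The `2`-length is at most the exponent of a Sylow `2`-subgroup.
-/

set_option autoImplicit false
set_option linter.style.haveILetI false
set_option linter.unusedSectionVars false

namespace H51.Bryu

open Cfsg H32.PSeries
open H28.TwoLength (exists_two_preimage exists_deficient_rep)

universe u

/-- A `2`-soluble finite group is soluble. -/
theorem isSolvable_of_twoSolvable {G : Type u} [Group G] [Finite G] (hG : IsPSolvable 2 G) :
    Group.IsSolvable G := by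
  haveI := Fact.mk Nat.prime_two
  obtain ⟨n, S, h0, hlast, hmono, hnorm, hfac⟩ := hG
  have key : ∀ i : Fin (n + 1), Group.IsSolvable (S i) := by
    intro i
    induction i using Fin.induction with
    | zero => rw [h0]; infer_instance
    | succ i ih =>
      haveI := hnorm i.castSucc
      set M := (S i.castSucc).subgroupOf (S i.succ)
      haveI : M.Normal := Subgroup.Normal.comap inferInstance _
      haveI := ih
      have hle : S i.castSucc ≤ S i.succ := hmono (Fin.castSucc_le_succ i)
      haveI : Group.IsSolvable M :=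
        solvable_of_solvable_injective (f := (Subgroup.subgroupOfEquivOfLe hle).toMonoidHom)
          (Subgroup.subgroupOfEquivOfLe hle).injective
      haveI : Group.IsSolvable (S i.succ ⧸ M) := by
        rcases hfac i with ⟨m, hm⟩ | hm
        · have hp : IsPGroup 2 (S i.succ ⧸ M) := IsPGroup.of_card (n := m) hm
          haveI := hp.isNilpotent
          infer_instance
        · exact H16.FT.oddOrder (Nat.coprime_two_right.mp hm)
      exact solvable_of_ker_le_range M.subtype (QuotientGroup.mk' M)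
        (by rw [QuotientGroup.ker_mk', Subgroup.range_subtype])
  have h := key (Fin.last n)
  rw [hlast] at h
  haveI := h
  exact solvable_of_solvable_injective (f := (Subgroup.topEquiv (G := G)).symm.toMonoidHom)
    (Subgroup.topEquiv (G := G)).symm.injective

/-- A solvable linear group without `2`-core with deficient `2`-elements. -/
theorem linear_length_le (m : ℕ) : ∀ (H : Type u) [Group H] [Finite H], Group.IsSolvable H →
    ∀ (n : ℕ) (ρ : H →* Module.End (AlgebraicClosure (ZMod 2))
      (Fin n → AlgebraicClosure (ZMod 2))), Function.Injective ρ → pCore 2 H = ⊥ →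
    (∀ (z : H) (b : ℕ), z ^ 2 ^ b = 1 → z ^ 2 ^ m = 1) →
    (∀ (z : H) (b : ℕ), z ^ 2 ^ b = 1 → ∑ i ∈ Finset.range (2 ^ m), ρ z ^ i = 0) →
    PLengthLE 2 (m - 1) H := by
  classical
  haveI := Fact.mk Nat.prime_two
  haveI : Fact (Nat.Prime 2) := ⟨Nat.prime_two⟩
  induction m with
  | zero =>
    intro H _ _ hH n ρ hρ hO hexp hdef
    refine pLengthLE_zero_of_coprime ?_
    rw [Nat.coprime_two_right, ← Nat.not_even_iff_odd, even_iff_two_dvd]
    intro h2
    obtain ⟨x, hx⟩ := exists_prime_orderOf_dvd_card' 2 h2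
    have h := hexp x 1 (by rw [pow_one, ← hx, pow_orderOf_eq_one])
    rw [pow_zero, pow_one] at h
    rw [h, orderOf_one] at hx
    exact absurd hx (by norm_num)
  | succ m ih =>
    intro H _ _ hH n ρ hρ hO hexpH hdef
    rcases Nat.eq_zero_or_pos m with rfl | hm
    · refine pLengthLE_zero_of_coprime ?_
      rw [Nat.coprime_two_right, ← Nat.not_even_iff_odd, even_iff_two_dvd]
      intro h2
      obtain ⟨x, hx⟩ := exists_prime_orderOf_dvd_card' 2 h2
      have hxe : x ^ 2 ^ 1 = 1 := by rw [pow_one, ← hx, pow_orderOf_eq_one]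
      have h := hdef x 1 hxe
      rw [show 2 ^ (0 + 1) = 2 by rfl, Finset.sum_range_succ, Finset.sum_range_one, pow_zero,
        pow_one] at h
      have h1 : ρ x = 1 := by
        refine LinearMap.ext fun v => ?_
        have hv := LinearMap.congr_fun h v
        rw [LinearMap.add_apply, Module.End.one_apply, LinearMap.zero_apply,
          add_eq_zero_iff_eq_neg'] at hv
        rw [Module.End.one_apply, hv]
        funext i
        rw [Pi.neg_apply, CharTwo.neg_eq]
      rw [hρ (h1.trans (map_one ρ).symm), orderOf_one] at hx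
      exact absurd hx (by norm_num)
    haveI := hH
    haveI hK₂n : (pPrimePCore 2 H).Normal := Subgroup.Normal.comap inferInstance _
    obtain ⟨n', σ, hσ, hσdef⟩ := exists_step H hH ρ hρ hO m hexpH hdef
      (fun r _ C Z _ _ hr2 hC hcom hZC hZc hpow μ v hv hμ z hz hdz M hMC hM j k hk hrk hjk hμj
          R₂ hR₂C hR₂ hidx =>
        H58.Bryu.fix_mem ρ hr2 C Z hC z m hz (by rw [Subgroup.normalizer_eq_top]; trivial)
          (by rw [Subgroup.normalizer_eq_top]; trivial) hdz hcom hZC hZc hpow μ hv hμ M hMC hM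
          hk hrk hjk hμj R₂ hR₂C hR₂ hidx)
    set K₂ := pPrimePCore 2 H
    have hq : PLengthLE 2 (m - 1) (H ⧸ K₂) := by
      refine ih (H ⧸ K₂) inferInstance n' σ hσ H28.TwoLength.pCore_quotient_pPrimePCore
        (fun x b hx => ?_) hσdef
      obtain ⟨y, c, rfl, hy⟩ := exists_two_preimage (QuotientGroup.mk' K₂)
        (QuotientGroup.mk'_surjective K₂) hx
      rw [← map_pow]
      exact (QuotientGroup.eq_one_iff _).mpr
        (H28.TwoLength.pow_mem_pPrimePCore hH ρ hρ hO m hexpH hdef y c hy)
    have hk : PLengthLE 2 1 K₂ := by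
      set R := (pPrimeCore 2 H).subgroupOf K₂ with hR
      haveI : (pPrimeCore 2 H).Normal := H10.pPrimeCore_normal
      haveI : R.Normal := Subgroup.Normal.comap inferInstance _
      have hR0 : PLengthLE 2 0 R := pLengthLE_zero_of_coprime (by
        refine Nat.Coprime.coprime_dvd_left ?_ (H10.pPrimeCore_coprime (G := H) (p := 2))
        exact Subgroup.card_comap_dvd_of_injective _ _ K₂.subtype_injective)
      have hR1 : PLengthLE 2 1 (K₂ ⧸ R) := pLengthLE_one_of_isPGroup (by
        intro x
        obtain ⟨k, rfl⟩ := QuotientGroup.mk'_surjective R x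
        obtain ⟨i, hi⟩ := H10.pCore_isPGroup (G := H ⧸ pPrimeCore 2 H) (p := 2)
          ⟨QuotientGroup.mk' (pPrimeCore 2 H) (k : H), k.2⟩
        refine ⟨i, ?_⟩
        rw [← map_pow]
        refine (QuotientGroup.eq_one_iff _).mpr ?_
        rw [hR, Subgroup.mem_subgroupOf, SubmonoidClass.coe_pow, ← QuotientGroup.eq_one_iff]
        exact congrArg Subtype.val hi)
      exact pLengthLE_add R hR0 hR1
    exact pLengthLE_mono (pLengthLE_add K₂ hk hq) (by omega)

/-- A solvable group with Sylow `2`-exponent dividing `2 ^ (m + 1)` has `2`-length at most `m + 1`. -/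
theorem length_le (m : ℕ) (G : Type u) [Group G] [Finite G] (hG : Group.IsSolvable G)
    (hexp : ∀ (z : G) (b : ℕ), z ^ 2 ^ b = 1 → z ^ 2 ^ (m + 1) = 1) : PLengthLE 2 (m + 1) G := by
  haveI := Fact.mk Nat.prime_two
  haveI := hG
  haveI : (pPrimeCore 2 G).Normal := H10.pPrimeCore_normal
  have h0 : PLengthLE 2 0 (pPrimeCore 2 G) :=
    pLengthLE_zero_of_coprime H10.pPrimeCore_coprime
  suffices hq : PLengthLE 2 (m + 1) (G ⧸ pPrimeCore 2 G) by
    exact pLengthLE_mono (pLengthLE_add _ h0 hq) (by omega)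
  set G₁ := G ⧸ pPrimeCore 2 G
  have hexp₁ : ∀ (z : G₁) (b : ℕ), z ^ 2 ^ b = 1 → z ^ 2 ^ (m + 1) = 1 := by
    intro x b hx
    obtain ⟨y, c, rfl, hy⟩ := exists_two_preimage (QuotientGroup.mk' (pPrimeCore 2 G))
      (QuotientGroup.mk'_surjective _) hx
    rw [← map_pow, hexp y c hy, map_one]
  have hO1 : pPrimeCore 2 G₁ = ⊥ := H10.pPrimeCore_quotient_pPrimeCore
  have hs : IsPSolvable 2 G₁ := H10.isPSolvable_of_isSolvable
  set U := pCore 2 G₁ with hU
  haveI : U.Normal := H10.pCore_normal
  have hcU : Subgroup.centralizer (U : Set G₁) ≤ U := H10.centralizer_pCore_le hs hO1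
  obtain ⟨n, ρ, hρU, -, hρker, hρdef⟩ := exists_deficient_rep U H10.pCore_isPGroup m hexp₁
  have hker : ρ.ker = U := by
    refine le_antisymm (H10.le_pCore inferInstance ?_) fun g hg => hρU g hg
    intro x
    obtain ⟨c, o, ho, hord⟩ := Nat.exists_eq_two_pow_mul_odd (orderOf_pos (x : G₁)).ne'
    refine ⟨c, Subtype.ext ?_⟩
    rw [SubmonoidClass.coe_pow, Subgroup.coe_one]
    set y := (x : G₁) ^ 2 ^ c with hy
    have hyo : orderOf y ∣ o := orderOf_dvd_of_pow_eq_one (by
      rw [hy, ← pow_mul, ← hord, pow_orderOf_eq_one])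
    have hodd : Odd (orderOf y) := ho.of_dvd_nat hyo
    have hyker : ρ y = 1 := by
      rw [hy, map_pow, show ρ (x : G₁) = 1 from x.2, one_pow]
    obtain ⟨t, ht⟩ := H10.pCore_isPGroup (G := G₁) (p := 2) ⟨y, hcU (hρker y hyker hodd)⟩
    exact orderOf_eq_one_iff.mp (Nat.eq_one_of_dvd_coprimes
      ((Nat.coprime_two_right.mpr hodd).pow_right t) dvd_rfl
      (orderOf_dvd_of_pow_eq_one (congrArg Subtype.val ht)))
  let ρH := QuotientGroup.lift U ρ hker.ge
  have hρH : Function.Injective ρH := by
    rw [← MonoidHom.ker_eq_bot_iff, eq_bot_iff]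
    intro x hx
    obtain ⟨g, rfl⟩ := QuotientGroup.mk'_surjective U x
    have hg : g ∈ ρ.ker := hx
    rw [hker] at hg
    exact Subgroup.mem_bot.mpr ((QuotientGroup.eq_one_iff g).mpr hg)
  have hOH : pCore 2 (G₁ ⧸ U) = ⊥ := by
    rw [H1.pCore_quotient 2 U H10.pCore_isPGroup, ← hU, Subgroup.map_eq_bot_iff,
      QuotientGroup.ker_mk']
  have hH := linear_length_le (m + 1) (G₁ ⧸ U) inferInstance n ρH hρH hOH
    (fun x b hx => by
      obtain ⟨y, c, rfl, hy⟩ := exists_two_preimage (QuotientGroup.mk' U)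
        (QuotientGroup.mk'_surjective _) hx
      rw [← map_pow, hexp₁ y c hy, map_one])
    (fun x b hx => by
      obtain ⟨y, c, rfl, hy⟩ := exists_two_preimage (QuotientGroup.mk' U)
        (QuotientGroup.mk'_surjective _) hx
      exact hρdef y c hy)
  exact pLengthLE_mono
    (pLengthLE_add U (pLengthLE_one_of_isPGroup H10.pCore_isPGroup) hH) (by omega)

end H51.Bryu
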