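import Cfsg.Agent.H51.Bryu.Leaf
import Cfsg.Agent.H58.Bryu.SectionRep
import Cfsg.Agent.H10.PSolvable

/-!
The chain of sections cut out by the leaves and its representation.
-/

set_option autoImplicit false
set_option linter.style.haveILetI false
set_option linter.unusedSectionVars false

namespace H51.Bryu

open scoped commutatorElement

universe u

variable {G : Type u} [Group G]

/-- A leaf, seen in the group: a stabiliser and a kernel on which norms descend. -/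
structure IsLeafPair (T : Subgroup G) (m : ℕ) (St Ker : Subgroup G) : Prop where
  ker_le : Ker ≤ St
  ker_norm : St ≤ Subgroup.normalizer (Ker : Set G)
  pow_mem : ∀ (z : G) (b : ℕ), z ^ 2 ^ b = 1 → z ^ 2 ^ m ∈ St
  sec : ∀ A : Subgroup G, A.Normal → A ≤ T → A ≤ St → ∀ B : Subgroup G, B.Normal → B ≤ A →
    A ≤ B ⊔ Ker → ∀ (z : G) (b : ℕ), z ^ 2 ^ b = 1 → ∀ t ∈ A,
      (t * z) ^ 2 ^ m * (z ^ 2 ^ m)⁻¹ ∈ frat B ⊔ Ker

/-- The iterated Frattini subgroups. -/
def fratIter (S : Subgroup G) : ℕ → Subgroup G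
  | 0 => S
  | k + 1 => frat (fratIter S k)

theorem fratIter_succ (S : Subgroup G) (k : ℕ) : fratIter S (k + 1) = fratIter (frat S) k := by
  induction k with
  | zero => rfl
  | succ k ih =>
    show frat (fratIter S (k + 1)) = frat (fratIter (frat S) k)
    rw [ih]

theorem fratIter_le (S : Subgroup G) : ∀ k, fratIter S k ≤ S
  | 0 => le_rfl
  | k + 1 => (frat_le _).trans (fratIter_le S k)

theorem fratIter_normal (S : Subgroup G) [S.Normal] : ∀ k, (fratIter S k).Normal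
  | 0 => (inferInstance : S.Normal)
  | k + 1 => H10.map_frattini_subtype_normal (fratIter_normal S k)

theorem fratIter_mono (S : Subgroup G) (k : ℕ) : fratIter S (k + 1) ≤ fratIter S k := frat_le _

theorem exists_fratIter_bot [Finite G] (S : Subgroup G) (hS : IsPGroup 2 S) :
    ∃ L, fratIter S L = ⊥ := by
  induction S using WellFoundedLT.induction with
  | _ S ih =>
    by_cases hb : S = ⊥
    · exact ⟨0, hb⟩
    have hlt : frat S < S := by
      refine lt_of_le_of_ne (frat_le S) fun h => ?_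
      haveI : Nontrivial S := (Subgroup.nontrivial_iff_ne_bot S).mpr hb
      obtain hM | ⟨M, hM, -⟩ := eq_top_or_exists_le_coatom (⊥ : Subgroup S)
      · exact bot_ne_top hM
      · refine hM.1 ((Subgroup.eq_top_iff' M).mpr fun x => ?_)
        obtain ⟨y, hy, hyx⟩ : (x : G) ∈ frat S := h.symm ▸ x.2
        exact Subtype.ext hyx ▸ H6.mem_frattini_iff.mp hy M hM
    obtain ⟨L, hL⟩ := ih _ hlt (hS.to_le hlt.le)
    exact ⟨L + 1, (fratIter_succ S L).trans hL⟩

/-- The deficient representation cut out by the leaves. -/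
theorem exists_leaf_rep [Finite G] (T : Subgroup G) [T.Normal] (hT : IsPGroup 2 T) (m : ℕ)
    (𝓛 : Set (Subgroup G × Subgroup G)) (h𝓛 : ∀ p ∈ 𝓛, IsLeafPair T m p.1 p.2)
    (hfaith : ∀ t ∈ T, (∀ p ∈ 𝓛, t ∈ p.2) → t = 1) :
    ∃ (n : ℕ) (ρ : G →* Module.End (AlgebraicClosure (ZMod 2))
        (Fin n → AlgebraicClosure (ZMod 2))),
      (∀ g ∈ T, ρ g = 1) ∧ (∀ g ∈ Subgroup.centralizer (T : Set G), ρ g = 1) ∧
      (∀ g, ρ g = 1 → Odd (orderOf g) → g ∈ Subgroup.centralizer (T : Set G)) ∧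
      ∀ (z : G) (b : ℕ), z ^ 2 ^ b = 1 → ∑ i ∈ Finset.range (2 ^ m), ρ z ^ i = 0 := by
  classical
  haveI := Fact.mk Nat.prime_two
  set Stall := ⨅ p ∈ 𝓛, p.1 with hStall
  set D := T ⊓ Stall.normalCore with hD
  haveI hDn : D.Normal := by rw [hD]; infer_instance
  have hDp : IsPGroup 2 D := hT.to_le inf_le_left
  obtain ⟨L₁, hL₁⟩ := exists_fratIter_bot T hT
  obtain ⟨L₂, hL₂⟩ := exists_fratIter_bot D hDp
  let Bot : ℕ → Subgroup G := fun i => D ⊓ (⨅ p ∈ 𝓛, fratIter D i ⊔ p.2).normalCore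
  haveI hBotn : ∀ i, (Bot i).Normal := fun i => by
    show (D ⊓ _).Normal
    infer_instance
  have hDSt : ∀ p ∈ 𝓛, D ≤ p.1 := fun p hp => by
    refine (inf_le_right.trans (Subgroup.normalCore_le _)).trans ?_
    exact iInf₂_le p hp
  have hBot0 : Bot 0 = D := by
    refine le_antisymm inf_le_left (le_inf le_rfl ?_)
    exact (Subgroup.normal_le_normalCore (H := ⨅ p ∈ 𝓛, fratIter D 0 ⊔ p.2) (N := D)).mpr
      (le_iInf₂ fun p _ => le_sup_left)
  let A : ℕ → Subgroup G := fun k => if k ≤ L₁ then fratIter T k ⊔ D else Bot (k - L₁)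
  have hA1 : ∀ k, k ≤ L₁ → A k = fratIter T k ⊔ D := fun k hk => if_pos hk
  have hA2 : ∀ k, L₁ ≤ k → A k = Bot (k - L₁) := fun k hk => by
    rcases eq_or_lt_of_le hk with h | h
    · subst h
      rw [hA1 L₁ le_rfl, Nat.sub_self, hBot0, hL₁, bot_sup_eq]
    · exact if_neg (by omega)
  have htwo : ∀ t ∈ T, ∀ (z : G) (b : ℕ), z ^ 2 ^ b = 1 → ∃ c, (t * z) ^ 2 ^ c = 1 := by
    intro t ht z b hz
    have hmem : (t * z) ^ 2 ^ b ∈ T := by
      rw [← QuotientGroup.eq_one_iff, QuotientGroup.mk_pow, QuotientGroup.mk_mul,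
        (QuotientGroup.eq_one_iff t).mpr ht, one_mul, ← QuotientGroup.mk_pow, hz]
      rfl
    obtain ⟨c, hc⟩ := hT ⟨_, hmem⟩
    refine ⟨b + c, ?_⟩
    rw [pow_add, pow_mul]
    exact congrArg Subtype.val hc
  have hquot : ∀ (N : Subgroup G), N.Normal → ∀ t ∈ N, ∀ z : G,
      (t * z) ^ 2 ^ m * (z ^ 2 ^ m)⁻¹ ∈ N := by
    intro N hN t ht z
    rw [← QuotientGroup.eq_one_iff, QuotientGroup.mk_mul, QuotientGroup.mk_inv,
      QuotientGroup.mk_pow, QuotientGroup.mk_pow, QuotientGroup.mk_mul,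
      (QuotientGroup.eq_one_iff t).mpr ht, one_mul, mul_inv_cancel]
  have hconj : ∀ (g t z : G), g * ((t * z) ^ 2 ^ m * (z ^ 2 ^ m)⁻¹) * g⁻¹ =
      (g * t * g⁻¹ * (g * z * g⁻¹)) ^ 2 ^ m * ((g * z * g⁻¹) ^ 2 ^ m)⁻¹ := by
    intro g t z
    rw [show g * t * g⁻¹ * (g * z * g⁻¹) = g * (t * z) * g⁻¹ by group, conj_pow, conj_pow]
    group
  have hgz : ∀ (g z : G) (b : ℕ), z ^ 2 ^ b = 1 → (g * z * g⁻¹) ^ 2 ^ b = 1 := fun g z b hz => by
    rw [conj_pow, hz, mul_one, mul_inv_cancel]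
  -- the top part: norms lie in `D`
  have htop : ∀ (z : G) (b : ℕ), z ^ 2 ^ b = 1 → ∀ t ∈ T,
      (t * z) ^ 2 ^ m * (z ^ 2 ^ m)⁻¹ ∈ D := by
    intro z b hz t ht
    refine ⟨hquot T inferInstance t ht z, fun g => ?_⟩
    rw [hconj]
    have ht' : g * t * g⁻¹ ∈ T := (inferInstance : T.Normal).conj_mem t ht g
    obtain ⟨c, hc⟩ := htwo _ ht' _ b (hgz g z b hz)
    simp only [hStall, Subgroup.mem_iInf]
    exact fun p hp => mul_mem ((h𝓛 p hp).pow_mem _ c hc)
      (inv_mem ((h𝓛 p hp).pow_mem _ b (hgz g z b hz)))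
  -- the bottom part
  have hmemBot : ∀ i x, x ∈ D → (∀ g, ∀ p ∈ 𝓛, g * x * g⁻¹ ∈ fratIter D i ⊔ p.2) → x ∈ Bot i :=
    fun i x hx h => ⟨hx, fun g => by simp only [Subgroup.mem_iInf]; exact h g⟩
  have hBotle : ∀ i, ∀ p ∈ 𝓛, Bot i ≤ fratIter D i ⊔ p.2 := fun i p hp => by
    refine (inf_le_right.trans (Subgroup.normalCore_le _)).trans ?_
    exact iInf₂_le p hp
  have hfrBot : ∀ i, fratIter D i ≤ Bot i := fun i => by
    haveI := fratIter_normal D i
    refine le_inf (fratIter_le D i) ?_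
    exact (Subgroup.normal_le_normalCore (H := ⨅ p ∈ 𝓛, fratIter D i ⊔ p.2)
      (N := fratIter D i)).mpr (le_iInf₂ fun p _ => le_sup_left)
  have hBotmono : ∀ i, Bot (i + 1) ≤ Bot i := fun i x hx =>
    hmemBot i x hx.1 fun g p hp =>
      sup_le_sup_right (fratIter_mono D i) _
        (hBotle (i + 1) p hp ((hBotn (i + 1)).conj_mem x hx g))
  have hBotsq : ∀ i, ∀ t ∈ Bot i, t ^ 2 ∈ Bot (i + 1) := by
    intro i t ht
    refine hmemBot _ _ (pow_mem ht.1 2) fun g p hp => ?_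
    rw [← conj_pow]
    haveI := fratIter_normal D i
    obtain ⟨y, hy, κ, hκ, hyκ⟩ := Subgroup.mem_sup_of_normal_left.mp
      (hBotle i p hp ((hBotn i).conj_mem t ht g))
    rw [← hyκ, show (y * κ) ^ 2 = y ^ 2 * (y⁻¹ * κ * y⁻¹⁻¹ * κ) by rw [sq, sq]; group]
    refine mul_mem (Subgroup.mem_sup_left ?_) (Subgroup.mem_sup_right (mul_mem ?_ hκ))
    · exact frat_sq (hDp.to_le (fratIter_le D i)) hy
    · exact H28.TwoLength.conj_mem (inv_mem ((h𝓛 p hp).ker_norm (hDSt p hp (fratIter_le D i hy)))) hκ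
  have hBotN : ∀ i (z : G) (b : ℕ), z ^ 2 ^ b = 1 → ∀ t ∈ Bot i,
      (t * z) ^ 2 ^ m * (z ^ 2 ^ m)⁻¹ ∈ Bot (i + 1) := by
    intro i z b hz t ht
    refine hmemBot _ _ (hquot D hDn t ht.1 z) fun g p hp => ?_
    rw [hconj]
    exact (h𝓛 p hp).sec (Bot i) (hBotn i) (inf_le_left.trans inf_le_left)
      (inf_le_left.trans (hDSt p hp)) (fratIter D i) (fratIter_normal D i) (hfrBot i)
      (hBotle i p hp) _ b (hgz g z b hz) _ ((hBotn i).conj_mem t ht g)
  refine H58.Bryu.exists_section_rep T hT (2 ^ m) A (L₁ + L₂) ?_ ?_ (fun k => ?_) (fun k => ?_)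
    (fun k t ht => ?_) (fun z b hz k t ht => ?_)
  · rw [hA1 0 (Nat.zero_le _)]
    exact sup_eq_left.mpr inf_le_left
  · rw [hA2 _ (by omega), Nat.add_sub_cancel_left, eq_bot_iff]
    intro x hx
    rw [Subgroup.mem_bot]
    refine hfaith x hx.1.1 fun p hp => ?_
    simpa [hL₂] using hBotle L₂ p hp hx
  · rcases Nat.lt_or_ge k L₁ with h | h
    · rw [hA1 k h.le, hA1 (k + 1) h]
      exact sup_le_sup_right (fratIter_mono T k) _
    · rw [hA2 k h, hA2 (k + 1) (by omega), show k + 1 - L₁ = k - L₁ + 1 by omega]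
      exact hBotmono _
  · rcases Nat.lt_or_ge k L₁ with h | h
    · rw [hA1 k h.le]
      haveI := fratIter_normal T k
      infer_instance
    · rw [hA2 k h]
      exact hBotn _
  · rcases Nat.lt_or_ge k L₁ with h | h
    · rw [hA1 k h.le] at ht
      rw [hA1 (k + 1) h]
      haveI := fratIter_normal T k
      obtain ⟨y, hy, d, hd, rfl⟩ := Subgroup.mem_sup_of_normal_left.mp ht
      rw [show (y * d) ^ 2 = y ^ 2 * (y⁻¹ * d * y⁻¹⁻¹ * d) by rw [sq, sq]; group]
      exact mul_mem (Subgroup.mem_sup_left (frat_sq (hT.to_le (fratIter_le T k)) hy))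
        (Subgroup.mem_sup_right (mul_mem (hDn.conj_mem d hd _) hd))
    · rw [hA2 k h] at ht
      rw [hA2 (k + 1) (by omega), show k + 1 - L₁ = k - L₁ + 1 by omega]
      exact hBotsq _ t ht
  · rcases Nat.lt_or_ge k L₁ with h | h
    · rw [hA1 k h.le] at ht
      rw [hA1 (k + 1) h]
      exact Subgroup.mem_sup_right (htop z b hz t (sup_le (fratIter_le T k) inf_le_left ht))
    · rw [hA2 k h] at ht
      rw [hA2 (k + 1) (by omega), show k + 1 - L₁ = k - L₁ + 1 by omega]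
      exact hBotN _ z b hz t ht

end H51.Bryu
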