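import Cfsg.Agent.H51.Bryu.Plane2
import Cfsg.Agent.H6.Basic
import Cfsg.Agent.H28.TwoLength.Plane

/-!
The norm of a section at one leaf lies in the Frattini subgroup.
-/

set_option autoImplicit false
set_option linter.style.haveILetI false
set_option linter.unusedSectionVars false

namespace H51.Bryu

open Module
open scoped commutatorElement

universe u v w

/-- The Frattini subgroup of a subgroup. -/
def frat {G : Type u} [Group G] (E : Subgroup G) : Subgroup G := (frattini E).map E.subtype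

theorem frat_le {G : Type u} [Group G] (E : Subgroup G) : frat E ≤ E := Subgroup.map_subtype_le _

theorem frat_sq {G : Type u} [Group G] [Finite G] {E : Subgroup G} (hE : IsPGroup 2 E) {x : G}
    (hx : x ∈ E) : x ^ 2 ∈ frat E := by
  haveI := Fact.mk Nat.prime_two
  exact ⟨(⟨x, hx⟩ : E) ^ 2, H6.pow_prime_mem_frattini hE _, rfl⟩

theorem frat_conj {G : Type u} [Group G] {E : Subgroup G} {g x : G}
    (hg : g ∈ Subgroup.normalizer (E : Set G)) (hx : x ∈ frat E) : g * x * g⁻¹ ∈ frat E := by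
  obtain ⟨y, hy, rfl⟩ := hx
  let θ : MulAut E := H28.TwoLength.subConj E g hg
  have h : (frattini E).map θ.toMonoidHom = frattini E :=
    Subgroup.characteristic_iff_map_eq.mp inferInstance θ
  exact ⟨θ y, h ▸ ⟨y, hy, rfl⟩, rfl⟩

/-- Products with an even number of factors of each kind are in the Frattini subgroup. -/
theorem frat_norm_four {G : Type u} [Group G] [Finite G] {E : Subgroup G} (hE : IsPGroup 2 E)
    {x p : G} (hx : x ∈ E) (hp : p ∈ E) :
    p * x * p * (x ^ 2 * p * x * (x ^ 2 * p)) ∈ frat E := by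
  haveI := Fact.mk Nat.prime_two
  set π := QuotientGroup.mk' (frattini E)
  have hcomm : ∀ u v : E, π u * π v = π v * π u := fun u v => by
    rw [← map_mul, ← map_mul]
    apply QuotientGroup.eq.mpr
    rw [show (u * v)⁻¹ * (v * u) = ⁅v⁻¹, u⁻¹⁆ by rw [commutatorElement_def]; group]
    exact H6.commutator_le_frattini hE (Subgroup.commutator_mem_commutator trivial trivial)
  have hsq : ∀ u : E, π u * π u = 1 := fun u => by
    rw [← map_mul, ← sq]
    exact (QuotientGroup.eq_one_iff _).mpr (H6.pow_prime_mem_frattini hE u)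
  have hsq' : ∀ (u : E) (v : E ⧸ frattini E), π u * (π u * v) = v := fun u v => by
    rw [← mul_assoc, hsq, one_mul]
  set X : E := ⟨x, hx⟩
  set P : E := ⟨p, hp⟩
  refine ⟨P * X * P * (X ^ 2 * P * X * (X ^ 2 * P)), ?_, rfl⟩
  refine (QuotientGroup.eq_one_iff _).mp ?_
  show π (P * X * P * (X ^ 2 * P * X * (X ^ 2 * P))) = 1
  simp only [map_mul, sq, mul_assoc, hsq', hsq]

variable {r : ℕ} [Fact r.Prime] {K : Type v} [Field K]
variable {X : Type w} [AddCommGroup X] [Module (ZMod r) X]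

section

variable [Finite X] {F : PairingForm r K X} {k : ℕ} {a : X ≃ₗ[ZMod r] X}
variable {E : Subgroup (X ≃ₗ[ZMod r] X)}

/-- The data at a leaf: a pure element normalising a `2`-group of isometries. -/
structure LeafData (F : PairingForm r K X) (k : ℕ) (a : X ≃ₗ[ZMod r] X)
    (E : Subgroup (X ≃ₗ[ZMod r] X)) : Prop where
  pure : Pure F k a
  twoE : IsPGroup 2 E
  isoE : E ≤ F.iso
  norm : a ∈ Subgroup.normalizer (E : Set (X ≃ₗ[ZMod r] X))

theorem LeafData.sup_pgroup (D : LeafData F k a E) : IsPGroup 2 (Subgroup.zpowers a ⊔ E : Subgroup _) := by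
  haveI := Fact.mk Nat.prime_two
  haveI : Finite (X ≃ₗ[ZMod r] X) := Finite.of_injective _ DFunLike.coe_injective
  refine IsPGroup.to_sup_of_normal_right' ?_ D.twoE (Subgroup.zpowers_le.mpr D.norm)
  obtain ⟨i, -, hi⟩ := (Nat.dvd_prime_pow Nat.prime_two).mp (orderOf_dvd_of_pow_eq_one D.pure.order)
  exact IsPGroup.of_card (n := i) (by rw [Nat.card_zpowers, hi])

theorem LeafData.sup_iso (D : LeafData F k a E) : Subgroup.zpowers a ⊔ E ≤ F.iso :=
  sup_le (Subgroup.zpowers_le.mpr D.pure.iso) D.isoE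

theorem LeafData.comm_mem (D : LeafData F k a E) {e : X ≃ₗ[ZMod r] X} (he : e ∈ E) :
    ⁅a, e⁆ ∈ E := by
  rw [commutatorElement_def]
  exact mul_mem (H28.TwoLength.conj_mem D.norm he) (inv_mem he)

/-- Level at least three. -/
theorem LeafData.norm_three (D : LeafData F k a E) (hk : 3 ≤ k) {p : X ≃ₗ[ZMod r] X} (hp : p ∈ E) :
    (p * a) ^ 2 ^ (k - 1) * (a ^ 2 ^ (k - 1))⁻¹ ∈ frat E := by
  haveI : Finite (X ≃ₗ[ZMod r] X) := Finite.of_injective _ DFunLike.coe_injective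
  have hc := commute_conj hk _ D.sup_pgroup D.sup_iso a
    (Subgroup.mem_sup_left (Subgroup.mem_zpowers a)) D.pure p (Subgroup.mem_sup_right hp)
  have hxa : a * ⁅a, p⁆ * a⁻¹ = ⁅a, p⁆ := by
    have h1 : ⁅a, p⁆ = a * (p * a * p⁻¹)⁻¹ := by rw [commutatorElement_def]; group
    rw [h1]
    exact mul_inv_eq_iff_eq_mul.mpr ((Commute.refl a).mul_right hc.inv_right).eq
  have hx2 : a * a * ⁅a, p⁆ * (a * a)⁻¹ = ⁅a, p⁆ := by
    rw [show a * a * ⁅a, p⁆ * (a * a)⁻¹ = a * (a * ⁅a, p⁆ * a⁻¹) * a⁻¹ by group, hxa, hxa]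
  have hp1 : a * p * a⁻¹ = ⁅a, p⁆ * p := by rw [commutatorElement_def]; group
  have hp2 : a * a * p * (a * a)⁻¹ = ⁅a, p⁆ ^ 2 * p := by
    rw [show a * a * p * (a * a)⁻¹ = a * (a * p * a⁻¹) * a⁻¹ by group, hp1,
      show a * (⁅a, p⁆ * p) * a⁻¹ = a * ⁅a, p⁆ * a⁻¹ * (a * p * a⁻¹) by group, hxa, hp1, sq,
      mul_assoc]
  -- doubling
  have key : ∀ i, 2 ≤ i → (p * a) ^ 2 ^ i * (a ^ 2 ^ i)⁻¹ ∈ frat E := by
    intro i hi
    induction i, hi using Nat.le_induction with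
    | base =>
      rw [show (2 : ℕ) ^ 2 = 4 by norm_num]
      have e : (p * a) ^ 4 * (a ^ 4)⁻¹ = p * (a * p * a⁻¹) *
          ((a * a * p * (a * a)⁻¹) * (a * a * (a * p * a⁻¹) * (a * a)⁻¹)) := by
        simp only [pow_succ, pow_zero, one_mul]; group
      rw [e, hp1, hp2, show a * a * (⁅a, p⁆ * p) * (a * a)⁻¹ =
        a * a * ⁅a, p⁆ * (a * a)⁻¹ * (a * a * p * (a * a)⁻¹) by group, hx2, hp2]
      simpa only [mul_assoc] using frat_norm_four D.twoE (D.comm_mem hp) hp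
    | succ n hn ih =>
      have e : (p * a) ^ 2 ^ (n + 1) * (a ^ 2 ^ (n + 1))⁻¹ =
          ((p * a) ^ 2 ^ n * (a ^ 2 ^ n)⁻¹) *
            (a ^ 2 ^ n * ((p * a) ^ 2 ^ n * (a ^ 2 ^ n)⁻¹) * (a ^ 2 ^ n)⁻¹) := by
        rw [pow_succ 2 n, mul_two, pow_add, pow_add]
        generalize (p * a) ^ 2 ^ n = u
        generalize a ^ 2 ^ n = w
        group
      rw [e]
      exact mul_mem ih (frat_conj (pow_mem D.norm _) ih)
  exact key (k - 1) (by omega)

/-- Central involutions of the Frattini subgroup are scalars. -/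
def Scalar (E : Subgroup (X ≃ₗ[ZMod r] X)) : Prop :=
  ∀ c ∈ frat E, c * c = 1 → (∀ φ ∈ frat E, φ * c = c * φ) → c = 1 ∨ ∀ x, c x = -x

theorem LeafData.cases (D : LeafData F k a E) {e : X ≃ₗ[ZMod r] X} (he : e ∈ E) :
    (plane k a).map e.toLinearMap = plane k a ∨ ∀ p ∈ plane k a, (e * a * e⁻¹) p = p := by
  haveI : Finite (X ≃ₗ[ZMod r] X) := Finite.of_injective _ DFunLike.coe_injective
  exact plane_cases _ D.sup_pgroup D.sup_iso a (Subgroup.mem_sup_left (Subgroup.mem_zpowers a))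
    D.pure e (Subgroup.mem_sup_right he)

/-- An element fixing the plane commutes with the involution. -/
theorem Pure.tau_comm (h : Pure F k a) {e : X ≃ₗ[ZMod r] X} (he : e ∈ F.iso)
    (hP : (plane k a).map e.toLinearMap = plane k a) :
    e * a ^ 2 ^ (k - 1) * e⁻¹ = a ^ 2 ^ (k - 1) := by
  obtain ⟨hc, hpl⟩ := h.conj he
  rw [← conj_pow]
  refine LinearEquiv.ext fun x => ?_
  obtain ⟨p, hp, q, hq, rfl⟩ := h.split x
  have hp' : p ∈ plane k (e * a * e⁻¹) := by rw [hpl, hP]; exact hp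
  have hq' : (e * a * e⁻¹) q = q := hc.fix_of_orth fun y hy => by
    rw [hpl, hP] at hy; exact h.orth hy hq
  rw [map_add, map_add, mem_plane.mp hp', mem_plane.mp hp, pow_fix hq', pow_fix hq]

variable {b : X ≃ₗ[ZMod r] X}

theorem LeafData.tau_prod (D : LeafData F 2 a E) {e : X ≃ₗ[ZMod r] X} (he : e ∈ E) :
    e * a ^ 2 * e⁻¹ = a ^ 2 ∨
      ((∀ p ∈ plane 2 a, (e * a * e⁻¹) p = p) ∧ ⁅a, e⁆ ^ 2 = e * a ^ 2 * e⁻¹ * a ^ 2) := by
  rcases D.cases he with h | h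
  · exact Or.inl (D.pure.tau_comm (D.isoE he) h)
  refine Or.inr ⟨h, ?_⟩
  obtain ⟨hc, -⟩ := D.pure.conj (D.isoE he)
  have hcom : Commute a (e * a * e⁻¹) := (hc.commute_of_fixes D.pure h).symm
  have h1 : ⁅a, e⁆ = a * (e * a * e⁻¹)⁻¹ := by rw [commutatorElement_def]; group
  have h4 : (e * a * e⁻¹) ^ 2 ^ 2 = 1 := by rw [conj_pow, D.pure.order, mul_one, mul_inv_cancel]
  rw [h1, hcom.inv_right.mul_pow, inv_pow, conj_pow,
    inv_eq_of_mul_eq_one_right (show e * a ^ 2 * e⁻¹ * (e * a ^ 2 * e⁻¹) = 1 by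
      rw [← conj_pow, ← pow_add]; exact h4)]
  simpa only [conj_pow] using (hcom.pow_pow 2 2).eq

/-- The Frattini subgroup fixes the plane. -/
theorem LeafData.frat_fix (D : LeafData F 2 a E) (hS : Scalar E) :
    ∀ φ ∈ frat E, φ * a ^ 2 * φ⁻¹ = a ^ 2 := by
  haveI : Finite (X ≃ₗ[ZMod r] X) := Finite.of_injective _ DFunLike.coe_injective
  haveI := Fact.mk Nat.prime_two
  set τ := a ^ 2 with hτ
  by_contra hcon
  push Not at hcon
  obtain ⟨φ₀, hφ₀, hne⟩ := hcon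
  -- the conjugates commute
  have hττ : ∀ φ ∈ frat E, ⁅a, φ⁆ ^ 2 = φ * τ * φ⁻¹ * τ ∨ φ * τ * φ⁻¹ = τ := fun φ hφ => by
    rcases D.tau_prod (frat_le E hφ) with h | ⟨-, h⟩
    · exact Or.inr h
    · exact Or.inl h
  have hτ2 : τ * τ = 1 := D.pure.tau_sq
  have hgen : ∀ φ ∈ frat E, φ * τ * φ⁻¹ * τ ∈ frat E := fun φ hφ => by
    rcases hττ φ hφ with h | h
    · rw [← h]; exact frat_sq D.twoE (D.comm_mem (frat_le E hφ))
    · rw [h, hτ2]; exact one_mem _
  set B := Subgroup.closure {x | ∃ φ ∈ frat E, φ * τ * φ⁻¹ * τ = x} with hB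
  have hBle : B ≤ frat E := (Subgroup.closure_le _).mpr (by
    rintro _ ⟨φ, hφ, rfl⟩; exact hgen φ hφ)
  -- `B` is normal in the Frattini subgroup
  haveI hBn : (B.subgroupOf (frat E)).Normal := by
    refine ⟨fun x hx g => ?_⟩
    rw [Subgroup.mem_subgroupOf] at hx ⊢
    rw [Subgroup.coe_mul, Subgroup.coe_mul, Subgroup.coe_inv]
    have hle : B ≤ B.comap (MulAut.conj (g : X ≃ₗ[ZMod r] X)).toMonoidHom := by
      refine (Subgroup.closure_le _).mpr ?_
      rintro _ ⟨φ, hφ, rfl⟩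
      show (g : X ≃ₗ[ZMod r] X) * (φ * τ * φ⁻¹ * τ) * (g : X ≃ₗ[ZMod r] X)⁻¹ ∈ B
      have h1 : (g : X ≃ₗ[ZMod r] X) * φ * τ * ((g : X ≃ₗ[ZMod r] X) * φ)⁻¹ * τ ∈ B :=
        Subgroup.subset_closure ⟨_, mul_mem g.2 hφ, rfl⟩
      have h2 : (g : X ≃ₗ[ZMod r] X) * τ * (g : X ≃ₗ[ZMod r] X)⁻¹ * τ ∈ B :=
        Subgroup.subset_closure ⟨_, g.2, rfl⟩
      convert mul_mem h1 (inv_mem h2) using 1
      have hτi : τ⁻¹ = τ := inv_eq_of_mul_eq_one_right hτ2
      rw [mul_inv_rev (_ * τ * _) τ, hτi]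
      simp only [mul_inv_rev, inv_inv, mul_assoc]
      rw [← mul_assoc τ τ, hτ2, one_mul, hτi]
      group
    exact hle hx
  have hne1 : B.subgroupOf (frat E) ≠ ⊥ := by
    intro h
    apply hne
    have h1 : (⟨_, hgen φ₀ hφ₀⟩ : frat E) ∈ B.subgroupOf (frat E) :=
      Subgroup.subset_closure ⟨φ₀, hφ₀, rfl⟩
    rw [h, Subgroup.mem_bot] at h1
    have h2 := congrArg Subtype.val h1
    change φ₀ * τ * φ₀⁻¹ * τ = 1 at h2
    rw [← mul_one (φ₀ * τ * φ₀⁻¹), ← hτ2, ← mul_assoc, h2, one_mul]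
  obtain ⟨c, hcB, hcZ, hc2⟩ :=
    H6.exists_mem_center_orderOf (D.twoE.to_le (frat_le E)) hne1
  have hc2' : (c : X ≃ₗ[ZMod r] X) * c = 1 := by
    rw [← Subgroup.coe_mul, ← sq, ← hc2, pow_orderOf_eq_one]; rfl
  -- a translate of the plane outside the orbit
  obtain ⟨e, he, hout⟩ : ∃ e ∈ E, ∀ φ ∈ frat E, φ * τ * φ⁻¹ ≠ e * τ * e⁻¹ := by
    by_contra hcon2
    push Not at hcon2
    apply hne
    let St : Subgroup E := (Subgroup.centralizer {τ}).subgroupOf E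
    have htop : St ⊔ frattini E = ⊤ := by
      rw [eq_top_iff]
      rintro ⟨e, he⟩ -
      obtain ⟨φ, hφ, h⟩ := hcon2 e he
      obtain ⟨φ', hφ', rfl⟩ := hφ
      have hmem : φ'⁻¹ * ⟨e, he⟩ ∈ St := by
        rw [Subgroup.mem_subgroupOf, Subgroup.mem_centralizer_iff]
        rintro _ rfl
        rw [Subgroup.coe_mul, Subgroup.coe_inv]
        show τ * ((φ' : X ≃ₗ[ZMod r] X)⁻¹ * e) = (φ' : X ≃ₗ[ZMod r] X)⁻¹ * e * τ
        calc τ * ((φ' : X ≃ₗ[ZMod r] X)⁻¹ * e)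
            = (φ' : X ≃ₗ[ZMod r] X)⁻¹ * (φ' * τ * (φ' : X ≃ₗ[ZMod r] X)⁻¹) * e := by group
          _ = (φ' : X ≃ₗ[ZMod r] X)⁻¹ * (e * τ * e⁻¹) * e := by rw [← h]; rfl
          _ = _ := by group
      have := mul_mem (Subgroup.mem_sup_right hφ' : φ' ∈ St ⊔ frattini E) (Subgroup.mem_sup_left hmem)
      rwa [mul_inv_cancel_left] at this
    have hSt := frattini_nongenerating htop
    obtain ⟨φ', hφ', rfl⟩ := hφ₀
    have h1 : φ' ∈ St := hSt ▸ Subgroup.mem_top _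
    rw [Subgroup.mem_subgroupOf, Subgroup.mem_centralizer_iff] at h1
    show (φ' : X ≃ₗ[ZMod r] X) * τ * (φ' : X ≃ₗ[ZMod r] X)⁻¹ = τ
    rw [← (h1 τ rfl)]; exact mul_inv_cancel_right _ _
  -- it is fixed by `B`
  obtain ⟨v, hv, hv0⟩ := (Submodule.ne_bot_iff (plane 2 a)).mp (fun h => by
    have := D.pure.rank; rw [h, finrank_bot] at this; omega)
  have hfixv : ∀ φ ∈ frat E, (φ * τ * φ⁻¹) (e v) = e v := by
    intro φ hφ
    have hd : φ⁻¹ * e ∈ E := mul_mem (inv_mem (frat_le E hφ)) he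
    rcases D.cases hd with h | h
    · exfalso
      apply hout φ hφ
      have h1 : φ⁻¹ * e * τ * (φ⁻¹ * e)⁻¹ = τ := D.pure.tau_comm (D.isoE hd) h
      calc φ * τ * φ⁻¹ = φ * (φ⁻¹ * e * τ * (φ⁻¹ * e)⁻¹) * φ⁻¹ := by rw [h1]
        _ = e * τ * e⁻¹ := by group
    · obtain ⟨hc, -⟩ := D.pure.conj (D.isoE hd)
      have hsym := hc.fixes_symm (h' := D.pure) h
      have h2 : τ ((φ⁻¹ * e) v) = (φ⁻¹ * e) v := by
        refine pow_fix (hsym _ ?_) 2
        rw [(D.pure.conj (D.isoE hd)).2]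
        exact ⟨v, hv, rfl⟩
      show φ (τ (φ⁻¹ (e v))) = e v
      rw [show φ⁻¹ (e v) = (φ⁻¹ * e) v from rfl, h2]
      exact φ.apply_symm_apply (e v)
  have hτv : τ (e v) = e v := by simpa using hfixv 1 (one_mem _)
  let S : Subgroup (X ≃ₗ[ZMod r] X) :=
    { carrier := {g | g (e v) = e v}
      one_mem' := rfl
      mul_mem' := fun {g h} hg hh => by
        show g (h (e v)) = e v
        rw [show h (e v) = e v from hh]; exact hg
      inv_mem' := fun {g} hg => by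
        show g⁻¹ (e v) = e v
        conv_lhs => rw [← (show g (e v) = e v from hg)]
        exact g.symm_apply_apply _ }
  have hBS : B ≤ S := (Subgroup.closure_le S).mpr (by
    rintro _ ⟨φ, hφ, rfl⟩
    show (φ * τ * φ⁻¹) (τ (e v)) = e v
    rw [hτv, hfixv φ hφ])
  have hcv : (c : X ≃ₗ[ZMod r] X) (e v) = e v := hBS hcB
  rcases hS c c.2 hc2' (fun φ hφ => congrArg Subtype.val (Subgroup.mem_center_iff.mp hcZ ⟨φ, hφ⟩))
    with h | h
  · exact absurd (Subtype.ext h : c = 1) (fun h0 => by simp [h0] at hc2)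
  · rw [h] at hcv
    exact hv0 (e.map_eq_zero_iff.mp (eq_self_of_eq_neg D.pure.odd_r hcv.symm))

/-- A moved plane goes to the complement, and then the pair of involutions is scalar. -/
theorem LeafData.moved (D : LeafData F 2 a E) (hS : Scalar E) {e : X ≃ₗ[ZMod r] X} (he : e ∈ E)
    (hne : e * a ^ 2 * e⁻¹ ≠ a ^ 2) : ∀ x, (e * a ^ 2 * e⁻¹ * a ^ 2) x = -x := by
  have hfix := D.frat_fix hS
  have hτ2 : a ^ 2 * a ^ 2 = 1 := D.pure.tau_sq
  rcases D.tau_prod he with h | ⟨-, h⟩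
  · exact absurd h hne
  have hmem : e * a ^ 2 * e⁻¹ * a ^ 2 ∈ frat E := by
    rw [← h]
    haveI : Finite (X ≃ₗ[ZMod r] X) := Finite.of_injective _ DFunLike.coe_injective
    exact frat_sq D.twoE (D.comm_mem he)
  have hself : (e * a ^ 2 * e⁻¹ * a ^ 2) * (e * a ^ 2 * e⁻¹ * a ^ 2) = 1 := by
    rw [← h, ← sq, ← pow_mul]
    rcases D.cases he with h' | h'
    · exact absurd (D.pure.tau_comm (D.isoE he) h') hne
    obtain ⟨hc, -⟩ := D.pure.conj (D.isoE he)
    rw [show ⁅a, e⁆ = a * (e * a * e⁻¹)⁻¹ by rw [commutatorElement_def]; group,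
      (hc.commute_of_fixes D.pure h').symm.inv_right.mul_pow, inv_pow, conj_pow,
      show (2 * 2 : ℕ) = 2 ^ 2 by norm_num, D.pure.order]
    simp
  refine (hS _ hmem hself fun φ hφ => ?_).resolve_left (fun h1 => hne ?_)
  · have h1 := hfix φ hφ
    have h2 : φ * (e * a ^ 2 * e⁻¹) * φ⁻¹ = e * a ^ 2 * e⁻¹ := by
      have h3 := hfix _ (frat_conj (g := e⁻¹) (inv_mem (Subgroup.le_normalizer he)) hφ)
      calc φ * (e * a ^ 2 * e⁻¹) * φ⁻¹
          = e * ((e⁻¹ * φ * e⁻¹⁻¹) * a ^ 2 * (e⁻¹ * φ * e⁻¹⁻¹)⁻¹) * e⁻¹ := by group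
        _ = _ := by rw [h3]
    rw [← mul_inv_eq_iff_eq_mul]
    calc φ * (e * a ^ 2 * e⁻¹ * a ^ 2) * φ⁻¹
        = φ * (e * a ^ 2 * e⁻¹) * φ⁻¹ * (φ * a ^ 2 * φ⁻¹) := by group
      _ = _ := by rw [h1, h2]
  · rw [← mul_one (e * a ^ 2 * e⁻¹), ← hτ2, ← mul_assoc, h1, one_mul]

/-- When the plane is fixed the norm is in the Frattini subgroup. -/
theorem LeafData.norm_two (D : LeafData F 2 a E) {p : X ≃ₗ[ZMod r] X} (hp : p ∈ E)
    (hfix : p * a ^ 2 * p⁻¹ = a ^ 2) (hb : (p * a) ^ 2 = 1 ∨ Pure F 2 (p * a)) :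
    (p * a) ^ 2 * (a ^ 2)⁻¹ ∈ frat E := by
  haveI : Finite (X ≃ₗ[ZMod r] X) := Finite.of_injective _ DFunLike.coe_injective
  have hcτ : Commute p (a ^ 2) := mul_inv_eq_iff_eq_mul.mp hfix
  have hpP : ∀ x ∈ plane 2 a, p x ∈ plane 2 a := fun x hx => by
    rw [mem_plane] at hx ⊢
    show (a ^ 2) (p x) = -p x
    rw [← LinearEquiv.mul_apply, ← hcτ.eq, LinearEquiv.mul_apply]
    show p ((a ^ 2 ^ (2 - 1)) x) = -p x
    rw [hx, map_neg]
  have hpF : ∀ q, a q = q → a (p q) = p q := fun q hq => D.pure.fix _ (by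
    show (a ^ 2) (p q) = p q
    rw [← LinearEquiv.mul_apply, ← hcτ.eq, LinearEquiv.mul_apply, pow_fix hq])
  by_cases hne : ∀ x ∈ plane 2 a, p (a x) = a (p x)
  · have hcom : Commute p a := LinearEquiv.ext fun x => by
      obtain ⟨y, hy, q, hq, rfl⟩ := D.pure.split x
      show p (a (y + q)) = a (p (y + q))
      simp only [map_add, hne y hy, hq, hpF q hq]
    rw [hcom.mul_pow, mul_inv_cancel_right]
    exact frat_sq D.twoE hp
  push Not at hne
  obtain ⟨v, hv, hne⟩ := hne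
  have hpa : p * a ∈ F.iso := mul_mem (D.isoE hp) D.pure.iso
  obtain ⟨n, hn⟩ := D.sup_pgroup ⟨p * a, mul_mem (Subgroup.mem_sup_right hp)
    (Subgroup.mem_sup_left (Subgroup.mem_zpowers a))⟩
  have hsq := D.pure.sq_neg_two hpa
    (fun x hx => hpP _ (D.pure.apply_mem hx)) (n := n) (congrArg Subtype.val hn) hv (by
      show p (a (a v)) ≠ a (p (a v))
      intro h
      apply hne
      obtain ⟨t, ht⟩ := D.pure.quad D.pure.iso (fun x => D.pure.apply_mem)
      have h1 : ∀ x, (a ^ 2 ^ (2 - 1)) x = a (a x) := fun x => by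
        show (a ^ 2) x = _; rw [sq]; rfl
      have hm : ∀ x ∈ plane 2 a, a (a x) = -x := fun x hx => by rw [← h1]; exact mem_plane.mp hx
      rw [hm v hv, map_neg] at h
      have h2 := congrArg a h
      rw [map_neg, hm _ (hpP _ (D.pure.apply_mem hv))] at h2
      exact neg_injective h2.symm)
  have hsq' : ∀ x ∈ plane 2 a, ((p * a) ^ 2) x = -x := fun x hx => by
    rw [sq]; exact hsq x hx
  rcases hb with hb | hb
  · exfalso
    refine hne ?_
    have := eq_self_of_eq_neg D.pure.odd_r (x := v) (by rw [← hsq' v hv, hb]; rfl)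
    rw [this, map_zero, map_zero, map_zero]
  have hpl : plane 2 a = plane 2 (p * a) := by
    haveI := hb.finite
    exact Submodule.eq_of_le_of_finrank_eq (fun x hx => hsq' x hx)
      (D.pure.rank.trans hb.rank.symm)
  have heq : (p * a) ^ 2 = a ^ 2 := LinearEquiv.ext fun x => by
    obtain ⟨y, hy, q, hq, rfl⟩ := D.pure.split x
    have hq' : (p * a) q = q := hb.fix_of_orth fun z hz => D.pure.orth (hpl ▸ hz) hq
    have hay : (a ^ 2) y = -y := mem_plane.mp hy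
    rw [map_add, map_add, hsq' y hy, hay, pow_fix hq', pow_fix hq]
  rw [heq, mul_inv_cancel]
  exact one_mem _

end

end H51.Bryu
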