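import Cfsg.Agent.H51.Bryu.Leaf

/-!
The norm of a section, seen at one leaf of the decomposition.
-/

set_option autoImplicit false
set_option linter.style.haveILetI false
set_option linter.unusedSectionVars false

namespace H51.Bryu

open Module
open scoped commutatorElement

universe u v w

variable {r : ℕ} [Fact r.Prime] {K : Type v} [Field K]
variable {X : Type w} [AddCommGroup X] [Module (ZMod r) X]

section

variable [Finite X] {F : PairingForm r K X} {a : X ≃ₗ[ZMod r] X}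
variable {E : Subgroup (X ≃ₗ[ZMod r] X)}

/-- The square of a commutator with a pure element of level two is scalar. -/
theorem LeafData.comm_sq (D : LeafData F 2 a E) (hS : Scalar E) {e : X ≃ₗ[ZMod r] X} (he : e ∈ E) :
    ⁅a, e⁆ ^ 2 * a ^ 2 = e * a ^ 2 * e⁻¹ ∧ ∀ g, Commute g (⁅a, e⁆ ^ 2) := by
  haveI : Finite (X ≃ₗ[ZMod r] X) := Finite.of_injective _ DFunLike.coe_injective
  have hτ2 : a ^ 2 * a ^ 2 = 1 := D.pure.tau_sq
  by_cases hf : e * a ^ 2 * e⁻¹ = a ^ 2
  swap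
  · rcases D.tau_prod he with h | ⟨-, h⟩
    · exact absurd h hf
    refine ⟨by rw [h, mul_assoc, hτ2, mul_one], fun g => LinearEquiv.ext fun x => ?_⟩
    show g ((⁅a, e⁆ ^ 2) x) = (⁅a, e⁆ ^ 2) (g x)
    rw [h, D.moved hS he hf, D.moved hS he hf, map_neg]
  suffices h1 : ⁅a, e⁆ ^ 2 = 1 by
    rw [h1]; exact ⟨by rw [one_mul, hf], fun g => Commute.one_right g⟩
  have hcτ : Commute e (a ^ 2) := mul_inv_eq_iff_eq_mul.mp hf
  have hτe : ∀ x, (a ^ 2) (e x) = e ((a ^ 2) x) := fun x => by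
    rw [← LinearEquiv.mul_apply, ← hcτ.eq, LinearEquiv.mul_apply]
  have heP : ∀ x ∈ plane 2 a, e x ∈ plane 2 a := fun x hx => by
    have hx' : (a ^ 2) x = -x := mem_plane.mp hx
    show (a ^ 2) (e x) = -e x
    rw [hτe, hx', map_neg]
  have heF : ∀ q, a q = q → a (e q) = e q := fun q hq => D.pure.fix _ (by
    show (a ^ 2) (e q) = e q
    rw [hτe, pow_fix hq])
  have hcm : ∀ x, a (e x) = ⁅a, e⁆ (e (a x)) := fun x => by
    show (a * e) x = (⁅a, e⁆ * (e * a)) x
    rw [commutatorElement_def]; group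
  by_cases hne : ∀ x ∈ plane 2 a, e (a x) = a (e x)
  · have hcom : Commute a e := LinearEquiv.ext fun x => by
      obtain ⟨y, hy, q, hq, rfl⟩ := D.pure.split x
      show a (e (y + q)) = e (a (y + q))
      simp only [map_add, hne y hy, hq, heF q hq]
    rw [commutatorElement_eq_one_iff_commute.mpr hcom, one_pow]
  push Not at hne
  obtain ⟨v, hv, hne⟩ := hne
  have hm : ∀ x ∈ plane 2 a, a (a x) = -x := fun x hx => by
    show (a * a) x = -x
    rw [← sq]; exact mem_plane.mp hx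
  obtain ⟨n, hn⟩ := D.sup_pgroup ⟨e, Subgroup.mem_sup_right he⟩
  have hee := D.pure.sq_neg_two (D.isoE he) heP (n := n) (congrArg Subtype.val hn) hv hne
  obtain ⟨n', hn'⟩ := D.sup_pgroup ⟨e * a, mul_mem (Subgroup.mem_sup_right he)
    (Subgroup.mem_sup_left (Subgroup.mem_zpowers a))⟩
  have hea := D.pure.sq_neg_two (g := e * a) (mul_mem (D.isoE he) D.pure.iso)
    (fun x hx => heP _ (D.pure.apply_mem hx)) (n := n') (congrArg Subtype.val hn') hv (by
      show e (a (a v)) ≠ a (e (a v))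
      intro h
      apply hne
      rw [hm v hv, map_neg] at h
      have h2 := congrArg a h
      rw [map_neg, hm _ (heP _ (D.pure.apply_mem hv))] at h2
      exact neg_injective h2.symm)
  have hneg : ∀ x ∈ plane 2 a, a (e x) = -e (a x) := fun x hx => by
    have h1 : e (a (e (a x))) = -x := hea x hx
    have h2 := congrArg e h1
    rw [map_neg, hee _ (D.pure.apply_mem (heP _ (D.pure.apply_mem hx))), neg_inj] at h2
    have h3 := congrArg a h2
    rw [hm _ (heP _ (D.pure.apply_mem hx))] at h3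
    exact h3.symm
  have hP : ∀ x ∈ plane 2 a, ⁅a, e⁆ x = -x := fun x hx => by
    haveI := D.pure.finite
    have hinj : Function.Injective ((a.toLinearMap.restrict fun y hy => D.pure.apply_mem hy) :
        plane 2 a →ₗ[ZMod r] plane 2 a) := fun y z hyz =>
      Subtype.ext (a.injective (congrArg Subtype.val hyz))
    have hinj' : Function.Injective ((e.toLinearMap.restrict heP) :
        plane 2 a →ₗ[ZMod r] plane 2 a) := fun y z hyz =>
      Subtype.ext (e.injective (congrArg Subtype.val hyz))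
    obtain ⟨y, hy⟩ := LinearMap.injective_iff_surjective.mp hinj' ⟨x, hx⟩
    obtain ⟨z, hz⟩ := LinearMap.injective_iff_surjective.mp hinj y
    have hz' : a (z : X) = y := congrArg Subtype.val hz
    have hy' : e (y : X) = x := congrArg Subtype.val hy
    rw [← hy', ← hz', ← hcm, hneg _ z.2]
  have hFx : ∀ q, a q = q → ⁅a, e⁆ q = q := fun q hq => by
    have hei : a (e.symm q) = e.symm q := D.pure.fix _ (by
      show (a ^ 2) (e.symm q) = e.symm q
      apply e.injective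
      rw [← hτe, e.apply_symm_apply, pow_fix hq])
    have h2 := hcm (e.symm q)
    rw [hei, e.apply_symm_apply, hq] at h2
    exact h2.symm
  refine LinearEquiv.ext fun x => ?_
  obtain ⟨y, hy, q, hq, rfl⟩ := D.pure.split x
  rw [sq]
  show ⁅a, e⁆ (⁅a, e⁆ (y + q)) = y + q
  rw [map_add, hP y hy, hFx q hq, map_add, map_neg, hP y hy, hFx q hq, neg_neg]

end

variable {G : Type u} [Group G] {H : Type w} [Group H]

/-- The restriction to a subgroup of a map multiplicative on a larger one. -/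
def partHom {St : Subgroup G} (π : G → H) (hπ : ∀ x ∈ St, ∀ y ∈ St, π (x * y) = π x * π y)
    (A : Subgroup G) (hA : A ≤ St) : A →* H :=
  MonoidHom.mk' (fun x => π x) fun x y => hπ x (hA x.2) y (hA y.2)

theorem partHom_frat [Finite G] {St : Subgroup G} (π : G → H)
    (hπ : ∀ x ∈ St, ∀ y ∈ St, π (x * y) = π x * π y) {A : Subgroup G} (hA : A ≤ St)
    (hp : IsPGroup 2 A) {e : H} (he : e ∈ frat (partHom π hπ A hA).range) :
    ∃ y ∈ frat A, π y = e := by
  haveI := Fact.mk Nat.prime_two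
  set φ := partHom π hπ A hA
  haveI : Finite φ.range := Finite.of_surjective _ φ.rangeRestrict_surjective
  haveI : ((frattini A).map φ.rangeRestrict).Normal :=
    (inferInstance : (frattini A).Normal).map _ φ.rangeRestrict_surjective
  have hle : frattini φ.range ≤ (frattini A).map φ.rangeRestrict := by
    refine H6.frattini_le_of_quotient (p := 2) _ ?_ fun g => ?_
    · show ⁅(⊤ : Subgroup φ.range), ⊤⁆ ≤ _
      refine Subgroup.commutator_le.mpr fun g _ g' _ => ?_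
      obtain ⟨x, rfl⟩ := φ.rangeRestrict_surjective g
      obtain ⟨x', rfl⟩ := φ.rangeRestrict_surjective g'
      exact ⟨⁅x, x'⁆, H6.commutator_le_frattini hp
        (Subgroup.commutator_mem_commutator trivial trivial), map_commutatorElement _ _ _⟩
    · obtain ⟨x, rfl⟩ := φ.rangeRestrict_surjective g
      exact ⟨x ^ 2, H6.pow_prime_mem_frattini hp x, map_pow _ _ _⟩
  obtain ⟨e', he', rfl⟩ := he
  obtain ⟨y, hy, rfl⟩ := hle he'
  exact ⟨y, ⟨y, hy, rfl⟩, rfl⟩

variable [Finite X] {F : PairingForm r K X} {k : ℕ}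

/-- The norm at a leaf lies in the Frattini subgroup of the image. -/
theorem leaf_sec [Finite G] (St : Subgroup G) (π : G → X ≃ₗ[ZMod r] X)
    (hπ : ∀ x ∈ St, ∀ y ∈ St, π (x * y) = π x * π y) (hiso : ∀ x ∈ St, π x ∈ F.iso)
    (A : Subgroup G) [A.Normal] (hA : IsPGroup 2 A) (hAS : A ≤ St)
    (hS : Scalar (partHom π hπ A hAS).range) {j m : ℕ} (hjk : j + (k - 1) = m)
    (hpure : ∀ (h : G) (b : ℕ), h ^ 2 ^ b = 1 → h ^ 2 ^ m ∈ St ∧
      (π (h ^ 2 ^ m) = 1 ∨ h ^ 2 ^ j ∈ St ∧ Pure F k (π (h ^ 2 ^ j))))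
    (z : G) (b : ℕ) (hz : z ^ 2 ^ b = 1) (t : G) (ht : t ∈ A) :
    π ((t * z) ^ 2 ^ m * (z ^ 2 ^ m)⁻¹) ∈ frat (partHom π hπ A hAS).range := by
  haveI : Finite (X ≃ₗ[ZMod r] X) := Finite.of_injective _ DFunLike.coe_injective
  set E := (partHom π hπ A hAS).range with hE
  have hA2 : IsPGroup 2 E := hA.of_surjective _ (partHom π hπ A hAS).rangeRestrict_surjective
  have hE1 : E ≤ F.iso := by
    rintro _ ⟨x, rfl⟩; exact hiso x (hAS x.2)
  have hEm : ∀ x ∈ A, π x ∈ E := fun x hx => ⟨⟨x, hx⟩, rfl⟩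
  let φ := partHom π hπ St le_rfl
  have hπ1 : π 1 = 1 := φ.map_one
  have hπinv : ∀ x ∈ St, π x⁻¹ = (π x)⁻¹ := fun x hx => φ.map_inv ⟨x, hx⟩
  have hπpow : ∀ x ∈ St, ∀ n : ℕ, π (x ^ n) = π x ^ n := fun x hx n => φ.map_pow ⟨x, hx⟩ n
  have hπcom : ∀ x ∈ St, ∀ y ∈ St, π ⁅x, y⁆ = ⁅π x, π y⁆ := fun x hx y hy =>
    map_commutatorElement φ ⟨x, hx⟩ ⟨y, hy⟩
  have htwo : ∀ t ∈ A, ∀ (z : G) (b : ℕ), z ^ 2 ^ b = 1 → ∃ c, (t * z) ^ 2 ^ c = 1 := by
    intro t ht z b hz
    have hmem : (t * z) ^ 2 ^ b ∈ A := by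
      rw [← QuotientGroup.eq_one_iff, QuotientGroup.mk_pow, QuotientGroup.mk_mul,
        (QuotientGroup.eq_one_iff t).mpr ht, one_mul, ← QuotientGroup.mk_pow, hz]
      rfl
    obtain ⟨c, hc⟩ := hA ⟨_, hmem⟩
    refine ⟨b + c, ?_⟩
    rw [pow_add, pow_mul]
    exact congrArg Subtype.val hc
  have hP : ∀ t ∈ A, ∀ (z : G) (n : ℕ), (t * z) ^ n * (z ^ n)⁻¹ ∈ A := by
    intro t ht z n
    rw [← QuotientGroup.eq_one_iff, QuotientGroup.mk_mul, QuotientGroup.mk_inv,
      QuotientGroup.mk_pow, QuotientGroup.mk_pow, QuotientGroup.mk_mul,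
      (QuotientGroup.eq_one_iff t).mpr ht, one_mul, mul_inv_cancel]
  have hdata : ∀ z : G, z ^ 2 ^ j ∈ St → Pure F k (π (z ^ 2 ^ j)) →
      LeafData F k (π (z ^ 2 ^ j)) E := fun z hzj hp => ⟨hp, hA2, hE1,
    H28.TwoLength.mem_norm fun e he => by
      obtain ⟨⟨x, hx⟩, rfl⟩ := he
      show π (z ^ 2 ^ j) * π x * (π (z ^ 2 ^ j))⁻¹ ∈ E
      rw [← hπinv _ hzj, ← hπ _ hzj _ (hAS hx), ← hπ _ (mul_mem hzj (hAS hx)) _ (inv_mem hzj)]
      exact hEm _ ((inferInstance : A.Normal).conj_mem x hx _)⟩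
  have hsplit : ∀ z : G, z ^ 2 ^ m = (z ^ 2 ^ j) ^ 2 ^ (k - 1) := fun z => by
    rw [← pow_mul, ← pow_add, hjk]
  -- the case of a pure `z`
  have main : ∀ (z : G) (b : ℕ), z ^ 2 ^ b = 1 → ∀ t ∈ A, z ^ 2 ^ j ∈ St →
      Pure F k (π (z ^ 2 ^ j)) → π ((t * z) ^ 2 ^ m * (z ^ 2 ^ m)⁻¹) ∈ frat E := by
    intro z b hz t ht hzj hpa
    obtain ⟨c, hc⟩ := htwo t ht z b hz
    have D := hdata z hzj hpa
    set a := π (z ^ 2 ^ j) with ha
    set p := π ((t * z) ^ 2 ^ j * (z ^ 2 ^ j)⁻¹) with hp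
    have hpE : p ∈ E := hEm _ (hP t ht z _)
    have htzj : (t * z) ^ 2 ^ j ∈ St := by
      simpa using mul_mem (hAS (hP t ht z (2 ^ j))) hzj
    have hpa' : π ((t * z) ^ 2 ^ j) = p * a := by
      rw [hp, ha, ← hπ _ (hAS (hP t ht z _)) _ hzj, inv_mul_cancel_right]
    have hzm : π (z ^ 2 ^ m) = a ^ 2 ^ (k - 1) := by rw [hsplit, hπpow _ hzj, ← ha]
    have htzm : π ((t * z) ^ 2 ^ m) = (p * a) ^ 2 ^ (k - 1) := by
      rw [hsplit, hπpow _ htzj, hpa']
    have hgoal : π ((t * z) ^ 2 ^ m * (z ^ 2 ^ m)⁻¹) =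
        (p * a) ^ 2 ^ (k - 1) * (a ^ 2 ^ (k - 1))⁻¹ := by
      have h1 := (hpure (t * z) c hc).1
      have h2 : z ^ 2 ^ m ∈ St := hsplit z ▸ pow_mem hzj _
      rw [hπ _ h1 _ (inv_mem h2), hπinv _ h2, hzm, htzm]
    rw [hgoal]
    rcases Nat.lt_or_ge k 3 with hk | hk
    swap
    · exact D.norm_three hk hpE
    obtain rfl : k = 2 := by have := hpa.two_le; omega
    have hb : (p * a) ^ 2 = 1 ∨ Pure F 2 (p * a) := by
      rcases (hpure (t * z) c hc).2 with h | ⟨-, h⟩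
      · exact Or.inl (by simpa using htzm.symm.trans h)
      · exact Or.inr (hpa' ▸ h)
    by_cases hfix : p * a ^ 2 * p⁻¹ = a ^ 2
    · simpa using D.norm_two hpE hfix hb
    exfalso
    -- an element with the opposite image
    set q := ⁅z ^ 2 ^ j, t⁆ ^ 2 with hq
    have hqA : q ∈ A := pow_mem (by
      rw [commutatorElement_def]
      exact mul_mem ((inferInstance : A.Normal).conj_mem t ht _) (inv_mem ht)) 2
    have hrec : ∀ n : ℕ,
        π ((t * z) ^ n * (z ^ n)⁻¹) * a ^ 2 * (π ((t * z) ^ n * (z ^ n)⁻¹))⁻¹ =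
          π ((q * z) ^ n * (z ^ n)⁻¹) * a ^ 2 ∧
        ∀ g, Commute g (π ((q * z) ^ n * (z ^ n)⁻¹)) := by
      intro n
      induction n with
      | zero => simp [hπ1]
      | succ n ih =>
        have hstep : ∀ t : G, (t * z) ^ (n + 1) * (z ^ (n + 1))⁻¹ =
            (t * z) ^ n * (z ^ n)⁻¹ * (z ^ n * t * (z ^ n)⁻¹) := fun t => by
          rw [pow_succ, pow_succ]; group
        have hqn : z ^ n * q * (z ^ n)⁻¹ = ⁅z ^ 2 ^ j, z ^ n * t * (z ^ n)⁻¹⁆ ^ 2 := by
          have h1 : (MulAut.conj (z ^ n)) (z ^ 2 ^ j) = z ^ 2 ^ j := by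
            show z ^ n * z ^ 2 ^ j * (z ^ n)⁻¹ = _
            rw [← pow_add, add_comm, pow_add, mul_inv_cancel_right]
          calc z ^ n * q * (z ^ n)⁻¹ = (MulAut.conj (z ^ n)) (⁅z ^ 2 ^ j, t⁆ ^ 2) := rfl
            _ = _ := by rw [map_pow, map_commutatorElement, h1]; rfl
        have htn : z ^ n * t * (z ^ n)⁻¹ ∈ A := (inferInstance : A.Normal).conj_mem t ht _
        have hqn' : z ^ n * q * (z ^ n)⁻¹ ∈ A := (inferInstance : A.Normal).conj_mem q hqA _
        rw [hstep, hstep, hπ _ (hAS (hP t ht z n)) _ (hAS htn),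
          hπ _ (hAS (hP q hqA z n)) _ (hAS hqn'), hqn,
          hπpow _ (by
            rw [commutatorElement_def]
            exact mul_mem (mul_mem (mul_mem hzj (hAS htn)) (inv_mem hzj)) (inv_mem (hAS htn))),
          hπcom _ hzj _ (hAS htn), ← ha]
        obtain ⟨h1, h2⟩ := D.comm_sq hS (hEm _ htn)
        obtain ⟨h3, h4⟩ := ih
        set P := π ((t * z) ^ n * (z ^ n)⁻¹)
        set Q := π ((q * z) ^ n * (z ^ n)⁻¹)
        set e := π (z ^ n * t * (z ^ n)⁻¹)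
        refine ⟨?_, fun g => (h4 g).mul_right (h2 g)⟩
        calc P * e * a ^ 2 * (P * e)⁻¹ = P * (e * a ^ 2 * e⁻¹) * P⁻¹ := by group
          _ = P * (⁅a, e⁆ ^ 2 * a ^ 2) * P⁻¹ := by rw [h1]
          _ = ⁅a, e⁆ ^ 2 * (P * a ^ 2 * P⁻¹) := by rw [← mul_assoc, (h2 P).eq]; group
          _ = ⁅a, e⁆ ^ 2 * Q * a ^ 2 := by rw [h3, mul_assoc]
          _ = Q * ⁅a, e⁆ ^ 2 * a ^ 2 := by rw [(h2 Q).eq]
    obtain ⟨h1, hcen⟩ := hrec (2 ^ j)
    rw [← hp] at h1
    set Q := π ((q * z) ^ 2 ^ j * (z ^ 2 ^ j)⁻¹) with hQ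
    have hmov := D.moved hS hpE hfix
    have hτ2 : a ^ 2 * a ^ 2 = 1 := D.pure.tau_sq
    have hQneg : ∀ x, Q x = -x := fun x => by
      rw [show Q = p * a ^ 2 * p⁻¹ * a ^ 2 by rw [h1, mul_assoc, hτ2, mul_one]]
      exact hmov x
    have hqzj : (q * z) ^ 2 ^ j ∈ St := by
      simpa using mul_mem (hAS (hP q hqA z (2 ^ j))) hzj
    have hqa : π ((q * z) ^ 2 ^ j) = Q * a := by
      rw [hQ, ha, ← hπ _ (hAS (hP q hqA z _)) _ hzj, inv_mul_cancel_right]
    have hQa2 : (Q * a) ^ 2 = a ^ 2 := LinearEquiv.ext fun x => by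
      rw [sq, sq]
      show Q (a (Q (a x))) = a (a x)
      rw [hQneg, hQneg, map_neg, neg_neg]
    obtain ⟨v, hv, hv0⟩ := (Submodule.ne_bot_iff (plane 2 a)).mp (fun h => by
      have := D.pure.rank; rw [h, finrank_bot] at this; omega)
    have hv' : (a ^ 2) v = -v := mem_plane.mp hv
    obtain ⟨c', hc'⟩ := htwo q hqA z b hz
    rcases (hpure (q * z) c' hc').2 with h | ⟨-, h⟩
    · rw [hsplit, hπpow _ hqzj, hqa, show (2 : ℕ) ^ (2 - 1) = 2 by norm_num, hQa2] at h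
      rw [h] at hv'
      exact hv0 (eq_self_of_eq_neg D.pure.odd_r hv')
    · rw [hqa] at h
      set w := p.symm v
      have hw : (a ^ 2) w = w := by
        have h5 := hmov v
        change p ((a ^ 2) (p.symm ((a ^ 2) v))) = -v at h5
        rw [hv', map_neg, map_neg, map_neg, neg_inj] at h5
        apply p.injective
        rw [p.apply_symm_apply]; exact h5
      have h6 : (Q * a) w = w := h.fix _ (by
        show ((Q * a) ^ 2) w = w
        rw [hQa2, hw])
      rw [LinearEquiv.mul_apply, D.pure.fix w hw, hQneg] at h6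
      exact hv0 (by
        have := eq_self_of_eq_neg D.pure.odd_r h6.symm
        simpa [w] using this)
  rcases (hpure z b hz).2 with h | ⟨hzj, hpa⟩
  swap
  · exact main z b hz t ht hzj hpa
  obtain ⟨c, hc⟩ := htwo t ht z b hz
  have hm1 := (hpure (t * z) c hc).1
  have hm2 := (hpure z b hz).1
  rcases (hpure (t * z) c hc).2 with h' | ⟨htzj, hpb⟩
  · rw [hπ _ hm1 _ (inv_mem hm2), hπinv _ hm2, h, h', inv_one, mul_one]
    exact one_mem _
  · have := main (t * z) c hc t⁻¹ (inv_mem ht) htzj hpb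
    rw [inv_mul_cancel_left, hπ _ hm2 _ (inv_mem hm1), hπinv _ hm1] at this
    rw [hπ _ hm1 _ (inv_mem hm2), hπinv _ hm2]
    simpa using inv_mem this

end H51.Bryu
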