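import Cfsg.Agent.H51.Bryu.Pieces

/-!
The leaves of the finest decomposition of one symplectic section.
-/

set_option autoImplicit false
set_option linter.style.haveILetI false
set_option linter.unusedSectionVars false

namespace H51.Bryu

open Module
open scoped commutatorElement

universe u v w

variable {r : ℕ} [Fact r.Prime] {K : Type v} [Field K]
variable {X : Type w} [AddCommGroup X] [Module (ZMod r) X]
variable {G : Type u} [Group G]

open Classical in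
/-- Restriction of an equivalence to an invariant piece (the identity otherwise). -/
noncomputable def restrPiece [Finite X] (Y : Submodule (ZMod r) X) (g : X ≃ₗ[ZMod r] X) :
    Y ≃ₗ[ZMod r] Y :=
  if h : ∀ x ∈ Y, g x ∈ Y then
    LinearEquiv.ofBijective ((g : X →ₗ[ZMod r] X).restrict h)
      (Finite.injective_iff_bijective.mp fun _ _ hyz =>
        Subtype.ext (g.injective (congrArg Subtype.val hyz)))
  else 1

theorem restrPiece_coe [Finite X] {Y : Submodule (ZMod r) X} {g : X ≃ₗ[ZMod r] X}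
    (h : ∀ x ∈ Y, g x ∈ Y) (x : Y) : ((restrPiece Y g x : Y) : X) = g (x : X) := by
  rw [restrPiece, dif_pos h]; rfl

theorem restrPiece_mul [Finite X] {Y : Submodule (ZMod r) X} {g g' : X ≃ₗ[ZMod r] X}
    (h : ∀ x ∈ Y, g x ∈ Y) (h' : ∀ x ∈ Y, g' x ∈ Y) :
    restrPiece Y (g * g') = restrPiece Y g * restrPiece Y g' := by
  refine LinearEquiv.ext fun x => Subtype.ext ?_
  rw [restrPiece_coe (g := g * g') (fun x hx => h _ (h' x hx)), LinearEquiv.mul_apply, LinearEquiv.mul_apply,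
    restrPiece_coe h, restrPiece_coe h']

/-- A stabiliser with its kernel, for a map multiplicative on `Γ`. -/
def stabPiece [Finite X] (Γ : Subgroup G) (π : G → X ≃ₗ[ZMod r] X)
    (hπ : ∀ x ∈ Γ, ∀ y ∈ Γ, π (x * y) = π x * π y) (Y : Submodule (ZMod r) X) : Subgroup G where
  carrier := {g | g ∈ Γ ∧ ∀ x ∈ Y, π g x ∈ Y}
  one_mem' := ⟨one_mem _, fun x hx => by
    have h1 : π 1 = 1 := (partHom π hπ Γ le_rfl).map_one
    rwa [h1]⟩
  mul_mem' := fun {g h} hg hh => ⟨mul_mem hg.1 hh.1, fun x hx => by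
    rw [hπ g hg.1 h hh.1]; exact hg.2 _ (hh.2 x hx)⟩
  inv_mem' := fun {g} hg => ⟨inv_mem hg.1, fun x hx => by
    have hinv : π g⁻¹ = (π g)⁻¹ := (partHom π hπ Γ le_rfl).map_inv ⟨g, hg.1⟩
    obtain ⟨y, hy⟩ := (restrPiece Y (π g)).surjective ⟨x, hx⟩
    have h2 : π g y = x := by rw [← restrPiece_coe hg.2]; exact congrArg Subtype.val hy
    rw [hinv, ← h2]
    show (π g).symm (π g y) ∈ Y
    rw [(π g).symm_apply_apply]; exact y.2⟩

/-- The kernel of a stabiliser. -/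
def kerPiece [Finite X] (Γ : Subgroup G) (π : G → X ≃ₗ[ZMod r] X)
    (hπ : ∀ x ∈ Γ, ∀ y ∈ Γ, π (x * y) = π x * π y) (Y : Submodule (ZMod r) X) : Subgroup G where
  carrier := {g | g ∈ Γ ∧ ∀ x ∈ Y, π g x = x}
  one_mem' := ⟨one_mem _, fun x _ => by
    have h1 : π 1 = 1 := (partHom π hπ Γ le_rfl).map_one
    rw [h1]; rfl⟩
  mul_mem' := fun {g h} hg hh => ⟨mul_mem hg.1 hh.1, fun x hx => by
    rw [hπ g hg.1 h hh.1, LinearEquiv.mul_apply, hh.2 x hx, hg.2 x hx]⟩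
  inv_mem' := fun {g} hg => ⟨inv_mem hg.1, fun x hx => by
    have hinv : π g⁻¹ = (π g)⁻¹ := (partHom π hπ Γ le_rfl).map_inv ⟨g, hg.1⟩
    rw [hinv]
    nth_rw 1 [← hg.2 x hx]
    exact (π g).symm_apply_apply x⟩

variable [Finite X] {F : PairingForm r K X}

/-- The Frattini subgroup of a leaf has only scalar central involutions. -/
theorem scalar_of_maximal (hr2 : r ≠ 2) (Γ : Subgroup G) (π : G → X ≃ₗ[ZMod r] X)
    (hπ : ∀ x ∈ Γ, ∀ y ∈ Γ, π (x * y) = π x * π y) (hiso : ∀ x ∈ Γ, π x ∈ F.iso)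
    {I : Subgroup (X ≃ₗ[ZMod r] X)} (hI : I ≤ F.iso) (hI2 : ∀ i ∈ I, i * i = 1)
    (hIΓ : ∀ g ∈ Γ, ∀ i ∈ I, π g * i * (π g)⁻¹ ∈ I)
    (hmax : ∀ J : Subgroup (X ≃ₗ[ZMod r] X), I ≤ J → J ≤ F.iso → (∀ i ∈ J, i * i = 1) →
      (∀ g ∈ Γ, ∀ i ∈ J, π g * i * (π g)⁻¹ ∈ J) → J ≤ I)
    {v : X} (hv : IsEigVec I v) (hv0 : v ≠ 0) (A : Subgroup G) [A.Normal]
    (hA : A ≤ stabPiece Γ π hπ (piece I v))
    (hmul : ∀ x ∈ stabPiece Γ π hπ (piece I v), ∀ y ∈ stabPiece Γ π hπ (piece I v),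
      restrPiece (piece I v) (π (x * y)) =
        restrPiece (piece I v) (π x) * restrPiece (piece I v) (π y)) :
    Scalar (partHom (fun g => restrPiece (piece I v) (π g)) hmul A hA).range := by
  classical
  haveI : Finite (X ≃ₗ[ZMod r] X) := Finite.of_injective _ DFunLike.coe_injective
  set Y := piece I v with hYdef
  set E := (partHom (fun g => restrPiece Y (π g)) hmul A hA).range
  intro c hc hc2 hcen
  set Y' := coPiece I v with hY'def
  have hcompl : IsCompl Y Y' := piece_isCompl hr2 hI hI2 hv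
  have hsup := piece_sup hr2 hI2 v
  set e := Submodule.prodEquivOfIsCompl Y Y' hcompl
  set d : X ≃ₗ[ZMod r] X := e.symm.trans ((c.prodCongr (LinearEquiv.refl (ZMod r) Y')).trans e)
  have hd : ∀ (y : Y) (w : Y'), d ((y : X) + w) = ((c y : Y) : X) + w := fun y w => by
    have h1 : e.symm ((y : X) + w) = (y, w) := e.injective (by
      rw [e.apply_symm_apply, Submodule.coe_prodEquivOfIsCompl'])
    show e ((c.prodCongr (LinearEquiv.refl (ZMod r) Y')) (e.symm ((y : X) + w))) = _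
    rw [h1, LinearEquiv.prodCongr_apply, Submodule.coe_prodEquivOfIsCompl']
    rfl
  have hdY : ∀ y : Y, d y = ((c y : Y) : X) := fun y => by simpa using hd y 0
  have hdY' : ∀ w ∈ Y', d w = w := fun w hw => by simpa using hd 0 ⟨w, hw⟩
  have hext : ∀ p q : X ≃ₗ[ZMod r] X, (∀ y ∈ Y, p y = q y) → (∀ w ∈ Y', p w = q w) → p = q := by
    intro p q h1 h2
    refine LinearEquiv.ext fun x => ?_
    obtain ⟨y, hy, w, hw, rfl⟩ := Submodule.mem_sup.mp (hsup x)
    rw [map_add, map_add, h1 y hy, h2 w hw]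
  have hcE : c ∈ E := frat_le E hc
  have hciso : ∀ y y' : Y, F.b (c y : Y) (c y' : Y) = F.b y y' := by
    obtain ⟨x, hx⟩ := hcE
    intro y y'
    rw [← hx]
    show F.b (restrPiece Y (π x) y : Y) (restrPiece Y (π x) y' : Y) = _
    rw [restrPiece_coe (hA x.2).2, restrPiece_coe (hA x.2).2]
    exact hiso _ (hA x.2).1 _ _
  have hdiso : d ∈ F.iso := by
    intro x x'
    obtain ⟨y, hy, w, hw, rfl⟩ := Submodule.mem_sup.mp (hsup x)
    obtain ⟨y', hy', w', hw', rfl⟩ := Submodule.mem_sup.mp (hsup x')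
    have o : ∀ {p q : X}, p ∈ Y → q ∈ Y' → F.b p q = 1 :=
      fun hp hq => orth_coPiece hr2 hI hv hp hq
    rw [hd ⟨y, hy⟩ ⟨w, hw⟩, hd ⟨y', hy'⟩ ⟨w', hw'⟩]
    simp only [F.add_left, F.add_right, o (c ⟨y, hy⟩).2 hw', o hy hw',
      F.orth_symm (o (c ⟨y', hy'⟩).2 hw), F.orth_symm (o hy' hw), hciso]
  have hd2 : d * d = 1 := hext _ _ (fun y hy => by
      rw [LinearEquiv.mul_apply, hdY ⟨y, hy⟩, hdY, ← LinearEquiv.mul_apply, hc2]; rfl)
    fun w hw => by rw [LinearEquiv.mul_apply, hdY' w hw, hdY' w hw]; rfl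
  have hπinv : ∀ g ∈ Γ, π g⁻¹ = (π g)⁻¹ := fun g hg => (partHom π hπ Γ le_rfl).map_inv ⟨g, hg⟩
  have hIinv : ∀ g ∈ Γ, ∀ i ∈ I, (π g)⁻¹ * i * π g ∈ I := fun g hg i hi => by
    have := hIΓ g⁻¹ (inv_mem hg) i hi
    rwa [hπinv g hg, inv_inv] at this
  -- the involutions commute with the new one
  have hId : ∀ i ∈ I, Commute i d := fun i hi => by
    have hiY' : ∀ w ∈ Y', i w ∈ Y' := fun w hw => by
      induction hw using Submodule.span_induction with
      | mem w hw =>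
        rcases hw with ⟨hwe, hwv⟩
        rcases hwe i hi with h | h <;> rw [h]
        · exact Submodule.subset_span ⟨hwe, hwv⟩
        · exact Submodule.neg_mem _ (Submodule.subset_span ⟨hwe, hwv⟩)
      | zero => rw [map_zero]; exact Submodule.zero_mem _
      | add y z _ _ h1 h2 => rw [map_add]; exact Submodule.add_mem _ h1 h2
      | smul c y _ h1 => rw [map_smul]; exact Submodule.smul_mem _ c h1
    refine hext _ _ (fun y hy => ?_) fun w hw => ?_
    · rw [LinearEquiv.mul_apply, LinearEquiv.mul_apply, hdY ⟨y, hy⟩]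
      rcases hv i hi with h | h
      · rw [((c ⟨y, hy⟩).2 i hi).1 h, (hy i hi).1 h, hdY ⟨y, hy⟩]
      · rw [((c ⟨y, hy⟩).2 i hi).2 h, (hy i hi).2 h, map_neg, hdY ⟨y, hy⟩]
    · rw [LinearEquiv.mul_apply, LinearEquiv.mul_apply, hdY' w hw, hdY' _ (hiY' w hw)]
  -- and so do its conjugates
  have hdd : ∀ g ∈ Γ, Commute (π g * d * (π g)⁻¹) d := by
    intro g hg
    set g' := π g
    rcases piece_cases hr2 hI (hIinv g hg) hv hv0 with h | h
    · have hgSt : g ∈ stabPiece Γ π hπ Y := ⟨hg, h⟩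
      have hginv : ∀ x ∈ Y, g'⁻¹ x ∈ Y := fun x hx => by
        rw [← hπinv g hg]; exact (inv_mem hgSt).2 x hx
      have hginv' : ∀ w ∈ Y', g'⁻¹ w ∈ Y' := fun w hw =>
        mem_coPiece_of_orth hr2 hI hI2 hv fun y hy => by
          have h1 := (inv_mem (hiso g hg) : g'⁻¹ ∈ F.iso) (g' y) w
          rw [show g'⁻¹ (g' y) = y from g'.symm_apply_apply y] at h1
          rw [h1]; exact orth_coPiece hr2 hI hv (h y hy) hw
      have hnorm : restrPiece Y g' ∈ Subgroup.normalizer (E : Set (Y ≃ₗ[ZMod r] Y)) := by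
        haveI : Finite (Y ≃ₗ[ZMod r] Y) := Finite.of_injective _ DFunLike.coe_injective
        refine H28.TwoLength.mem_norm fun x hx => ?_
        obtain ⟨⟨a, ha⟩, rfl⟩ := hx
        refine ⟨⟨g * a * g⁻¹, (inferInstance : A.Normal).conj_mem a ha g⟩, ?_⟩
        show restrPiece Y (π (g * a * g⁻¹)) = restrPiece Y g' * restrPiece Y (π a) * _
        rw [hmul _ (mul_mem hgSt (hA ha)) _ (inv_mem hgSt), hmul _ hgSt _ (hA ha)]
        congr 1
        exact (partHom (fun g => restrPiece Y (π g)) hmul _ le_rfl).map_inv ⟨g, hgSt⟩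
      set c' := restrPiece Y g' * c * (restrPiece Y g')⁻¹
      have hcc : c' * c = c * c' := hcen _ (frat_conj hnorm hc)
      have hcY : ∀ y : Y, (g' * d * g'⁻¹) y = ((c' y : Y) : X) := fun y => by
        show g' (d (g'⁻¹ y)) = _
        have h1 : ((restrPiece Y g').symm y : Y) = (⟨g'⁻¹ y, hginv y y.2⟩ : Y) :=
          (restrPiece Y g').injective (Subtype.ext (by
            rw [(restrPiece Y g').apply_symm_apply, restrPiece_coe h]
            exact (g'.apply_symm_apply _).symm))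
        show g' (d (g'⁻¹ y)) = ((restrPiece Y g' (c ((restrPiece Y g').symm y)) : Y) : X)
        rw [h1, restrPiece_coe h, ← hdY]
      have hcY' : ∀ w ∈ Y', (g' * d * g'⁻¹) w = w := fun w hw => by
        show g' (d (g'⁻¹ w)) = w
        rw [hdY' _ (hginv' w hw)]; exact g'.apply_symm_apply w
      refine hext _ _ (fun y hy => ?_) fun w hw => ?_
      · show (g' * d * g'⁻¹) (d y) = d ((g' * d * g'⁻¹) y)
        rw [hdY ⟨y, hy⟩, hcY, hcY ⟨y, hy⟩, hdY,
          ← LinearEquiv.mul_apply, hcc, LinearEquiv.mul_apply]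
      · show (g' * d * g'⁻¹) (d w) = d ((g' * d * g'⁻¹) w)
        rw [hdY' w hw, hcY' w hw, hdY' w hw]
    · have hc'iso : g' * d * g'⁻¹ ∈ F.iso :=
        mul_mem (mul_mem (hiso g hg) hdiso) (inv_mem (hiso g hg))
      have hfixY : ∀ y ∈ Y, (g' * d * g'⁻¹) y = y := fun y hy => by
        have h1 : g'⁻¹ y ∈ Y' := mem_coPiece_of_orth hr2 hI hI2 hv fun x hx => by
          have h2 := hiso g hg x (g'⁻¹ y)
          rw [show g' (g'⁻¹ y) = y from g'.apply_symm_apply y] at h2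
          rw [← h2]; exact F.orth_symm (h x hx y hy)
        show g' (d (g'⁻¹ y)) = y
        rw [hdY' _ h1]; exact g'.apply_symm_apply y
      refine hext _ _ (fun y hy => ?_) fun w hw => ?_
      · show (g' * d * g'⁻¹) (d y) = d ((g' * d * g'⁻¹) y)
        rw [hdY ⟨y, hy⟩, hfixY _ (c ⟨y, hy⟩).2, hfixY y hy, hdY ⟨y, hy⟩]
      · have h3 : (g' * d * g'⁻¹) w ∈ Y' := mem_coPiece_of_orth hr2 hI hI2 hv fun y hy => by
          rw [← hfixY y hy, hc'iso]; exact orth_coPiece hr2 hI hv hy hw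
        show (g' * d * g'⁻¹) (d w) = d ((g' * d * g'⁻¹) w)
        rw [hdY' w hw, hdY' _ h3]
  set S : Set (X ≃ₗ[ZMod r] X) := {p | ∃ g ∈ Γ, π g * d * (π g)⁻¹ = p}
  set J := Subgroup.closure ((I : Set (X ≃ₗ[ZMod r] X)) ∪ S)
  have hSI : ∀ i ∈ I, ∀ g ∈ Γ, Commute i (π g * d * (π g)⁻¹) := fun i hi g hg => by
    have h1 := (hId _ (hIinv g hg i hi)).map (MulAut.conj (π g)).toMonoidHom
    rw [show (MulAut.conj (π g)).toMonoidHom ((π g)⁻¹ * i * π g) = i by
      show π g * ((π g)⁻¹ * i * π g) * (π g)⁻¹ = i; group] at h1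
    exact h1
  have hgen2 : ∀ p ∈ (I : Set (X ≃ₗ[ZMod r] X)) ∪ S, p * p = 1 := by
    rintro p (hp | ⟨g, hg, rfl⟩)
    · exact hI2 p hp
    · rw [show π g * d * (π g)⁻¹ * (π g * d * (π g)⁻¹) = π g * (d * d) * (π g)⁻¹ by group, hd2,
        mul_one, mul_inv_cancel]
  have hgencomm : ∀ p ∈ (I : Set (X ≃ₗ[ZMod r] X)) ∪ S, ∀ q ∈ (I : Set (X ≃ₗ[ZMod r] X)) ∪ S,
      Commute p q := by
    rintro p (hp | ⟨g, hg, rfl⟩) q (hq | ⟨g₁, hg₁, rfl⟩)
    · have h3 : ∀ z ∈ I, z⁻¹ = z := fun z hz => inv_eq_of_mul_eq_one_right (hI2 z hz)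
      show p * q = q * p
      rw [← h3 _ (mul_mem hp hq), mul_inv_rev, h3 _ hp, h3 _ hq]
    · exact hSI p hp g₁ hg₁
    · exact (hSI q hq g hg).symm
    · have h1 := (hdd (g₁⁻¹ * g) (mul_mem (inv_mem hg₁) hg)).map (MulAut.conj (π g₁)).toMonoidHom
      rw [show (MulAut.conj (π g₁)).toMonoidHom
          (π (g₁⁻¹ * g) * d * (π (g₁⁻¹ * g))⁻¹) = π g * d * (π g)⁻¹ by
        rw [hπ _ (inv_mem hg₁) _ hg, hπinv g₁ hg₁]
        show π g₁ * _ * (π g₁)⁻¹ = _
        group] at h1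
      exact h1
  have hJc : ∀ p ∈ J, ∀ q ∈ J, Commute p q := by
    intro p hp q hq
    induction hp, hq using Subgroup.closure_induction₂ with
    | mem x y hx hy => exact hgencomm x hx y hy
    | one_left x _ => exact Commute.one_left x
    | one_right x _ => exact Commute.one_right x
    | mul_left x y z _ _ _ h1 h2 => exact h1.mul_left h2
    | mul_right y z x _ _ _ h1 h2 => exact h1.mul_right h2
    | inv_left x y _ _ h => exact h.inv_left
    | inv_right x y _ _ h => exact h.inv_right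
  have hJ2 : ∀ p ∈ J, p * p = 1 := fun p hp => by
    induction hp using Subgroup.closure_induction with
    | mem x hx => exact hgen2 x hx
    | one => exact mul_one 1
    | mul x y hx hy h1 h2 =>
      rw [show x * y * (x * y) = x * (y * x) * y by group, ← (hJc x hx y hy).eq,
        show x * (x * y) * y = x * x * (y * y) by group, h1, h2, mul_one]
    | inv x _ h => rw [← mul_inv_rev, h, inv_one]
  have hJiso : J ≤ F.iso := (Subgroup.closure_le _).mpr (by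
    rintro p (hp | ⟨g, hg, rfl⟩)
    · exact hI hp
    · exact mul_mem (mul_mem (hiso g hg) hdiso) (inv_mem (hiso g hg)))
  have hJΓ : ∀ g ∈ Γ, ∀ p ∈ J, π g * p * (π g)⁻¹ ∈ J := by
    intro g hg
    show J ≤ J.comap (MulAut.conj (π g)).toMonoidHom
    refine (Subgroup.closure_le _).mpr ?_
    rintro p (hp | ⟨g₁, hg₁, rfl⟩)
    · exact Subgroup.subset_closure (Or.inl (hIΓ g hg p hp))
    · refine Subgroup.subset_closure (Or.inr ⟨g * g₁, mul_mem hg hg₁, ?_⟩)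
      show π (g * g₁) * d * (π (g * g₁))⁻¹ = π g * (π g₁ * d * (π g₁)⁻¹) * (π g)⁻¹
      rw [hπ g hg g₁ hg₁]; group
  have hdI : d ∈ I := hmax J (fun i hi => Subgroup.subset_closure (Or.inl hi)) hJiso hJ2 hJΓ
    (Subgroup.subset_closure (Or.inr ⟨1, one_mem Γ, by
      rw [show π 1 = 1 from (partHom π hπ Γ le_rfl).map_one]; group⟩))
  rcases hv d hdI with h | h
  · refine Or.inl (LinearEquiv.ext fun y => Subtype.ext ?_)
    rw [← hdY, (y.2 d hdI).1 h]; rfl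
  · refine Or.inr fun y => Subtype.ext ?_
    rw [← hdY, (y.2 d hdI).2 h]; rfl

/-- The leaves of one symplectic section. -/
theorem exists_leaf_pairs [Finite G] (hr2 : r ≠ 2) (T : Subgroup G) (hT : IsPGroup 2 T)
    {m j k : ℕ} (hjk : j + (k - 1) = m) (Γ : Subgroup G) (π : G → X ≃ₗ[ZMod r] X)
    (hπ : ∀ x ∈ Γ, ∀ y ∈ Γ, π (x * y) = π x * π y) (hiso : ∀ x ∈ Γ, π x ∈ F.iso)
    (hpure : ∀ (h : G) (b : ℕ), h ^ 2 ^ b = 1 → h ^ 2 ^ m ∈ Γ ∧
      (π (h ^ 2 ^ m) = 1 ∨ h ^ 2 ^ j ∈ Γ ∧ Pure F k (π (h ^ 2 ^ j)))) :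
    ∃ 𝓛 : Set (Subgroup G × Subgroup G), (∀ p ∈ 𝓛, IsLeafPair T m p.1 p.2) ∧
      ∀ t, (∀ p ∈ 𝓛, t ∈ p.2) → t ∈ Γ ∧ π t = 1 := by
  classical
  haveI : Finite (X ≃ₗ[ZMod r] X) := Finite.of_injective _ DFunLike.coe_injective
  let P : Subgroup (X ≃ₗ[ZMod r] X) → Prop := fun J =>
    J ≤ F.iso ∧ (∀ i ∈ J, i * i = 1) ∧ ∀ g ∈ Γ, ∀ i ∈ J, π g * i * (π g)⁻¹ ∈ J
  obtain ⟨I, -, hImax⟩ := Finite.exists_le_maximal (α := Subgroup (X ≃ₗ[ZMod r] X)) (p := P)
    (a := ⊥) ⟨bot_le, fun i hi => by rw [Subgroup.mem_bot.mp hi, mul_one],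
      fun g _ i hi => by rw [Subgroup.mem_bot.mp hi, mul_one, mul_inv_cancel]; exact one_mem _⟩
  obtain ⟨hI, hI2, hIΓ⟩ := hImax.prop
  have hmax : ∀ J : Subgroup (X ≃ₗ[ZMod r] X), I ≤ J → J ≤ F.iso → (∀ i ∈ J, i * i = 1) →
      (∀ g ∈ Γ, ∀ i ∈ J, π g * i * (π g)⁻¹ ∈ J) → J ≤ I :=
    fun J h1 h2 h3 h4 => (hImax.eq_of_le ⟨h2, h3, h4⟩ h1).ge
  refine ⟨insert (Γ, Γ) {p | ∃ v, IsEigVec I v ∧ v ≠ 0 ∧
    p = (stabPiece Γ π hπ (piece I v), kerPiece Γ π hπ (piece I v))}, ?_, fun t ht => ?_⟩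
  swap
  · refine ⟨ht (Γ, Γ) (Set.mem_insert _ _), LinearEquiv.ext fun x => ?_⟩
    rw [show (1 : X ≃ₗ[ZMod r] X) x = x from rfl]
    induction span_eigVec hr2 I hI2 x using Submodule.span_induction with
    | mem w hw =>
      by_cases hw0 : w = 0
      · rw [hw0, map_zero]
      · exact (ht _ (Set.mem_insert_of_mem _ ⟨w, hw, hw0, rfl⟩)).2 w (self_mem_piece I w)
    | zero => exact map_zero _
    | add y z _ _ h1 h2 => rw [map_add, h1, h2]
    | smul c y _ h1 => rw [map_smul, h1]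
  rintro p (rfl | ⟨v, hv, hv0, rfl⟩)
  · exact ⟨le_rfl, Subgroup.le_normalizer, fun z b hz => (hpure z b hz).1,
      fun A hAn _ hA B _ _ _ z b hz t ht => Subgroup.mem_sup_right (hA (by
        rw [← QuotientGroup.eq_one_iff, QuotientGroup.mk_mul, QuotientGroup.mk_inv,
          QuotientGroup.mk_pow, QuotientGroup.mk_pow, QuotientGroup.mk_mul,
          (QuotientGroup.eq_one_iff t).mpr ht, one_mul, mul_inv_cancel]))⟩
  set Y := piece I v
  set St := stabPiece Γ π hπ Y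
  set Ker := kerPiece Γ π hπ Y
  let πY : G → Y ≃ₗ[ZMod r] Y := fun g => restrPiece Y (π g)
  have hmul : ∀ x ∈ St, ∀ y ∈ St, πY (x * y) = πY x * πY y := fun x hx y hy => by
    show restrPiece Y (π (x * y)) = _
    rw [hπ x hx.1 y hy.1, restrPiece_mul hx.2 hy.2]
  set FY := pieceForm hr2 hI hI2 hv
  have hisoY : ∀ x ∈ St, πY x ∈ FY.iso := fun x hx y y' => by
    show F.b (πY x y : Y) (πY x y' : Y) = F.b y y'
    rw [restrPiece_coe hx.2, restrPiece_coe hx.2]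
    exact hiso x hx.1 _ _
  have hKerSt : Ker ≤ St := fun g hg => ⟨hg.1, fun x hx => by rw [hg.2 x hx]; exact hx⟩
  have hKer : ∀ g ∈ St, πY g = 1 → g ∈ Ker := fun g hg h => ⟨hg.1, fun x hx => by
    have := congrArg Subtype.val (LinearEquiv.congr_fun h ⟨x, hx⟩)
    rwa [restrPiece_coe hg.2] at this⟩
  have hKer' : ∀ g ∈ Ker, πY g = 1 := fun g hg => LinearEquiv.ext fun y => Subtype.ext (by
    rw [restrPiece_coe (hKerSt hg).2, hg.2 y y.2]; rfl)
  have hpureY : ∀ (h : G) (b : ℕ), h ^ 2 ^ b = 1 → h ^ 2 ^ m ∈ St ∧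
      (πY (h ^ 2 ^ m) = 1 ∨ h ^ 2 ^ j ∈ St ∧ Pure FY k (πY (h ^ 2 ^ j))) := by
    intro h b hb
    obtain ⟨hm, hcase⟩ := hpure h b hb
    have hfix : (∀ y ∈ Y, π (h ^ 2 ^ m) y = y) → h ^ 2 ^ m ∈ St ∧ (πY (h ^ 2 ^ m) = 1 ∨
        h ^ 2 ^ j ∈ St ∧ Pure FY k (πY (h ^ 2 ^ j))) := fun hy =>
      ⟨hKerSt ⟨hm, hy⟩, Or.inl (hKer' _ ⟨hm, hy⟩)⟩
    by_cases hy : ∀ y ∈ Y, π (h ^ 2 ^ m) y = y
    · exact hfix hy
    rcases hcase with h1 | ⟨hj, hp⟩
    · exact hfix fun y _ => by rw [h1]; rfl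
    push Not at hy
    obtain ⟨y₀, hy₀, hne⟩ := hy
    set a := π (h ^ 2 ^ j) with ha
    have hτ : π (h ^ 2 ^ m) = a ^ 2 ^ (k - 1) := by
      rw [show h ^ 2 ^ m = (h ^ 2 ^ j) ^ 2 ^ (k - 1) by rw [← pow_mul, ← pow_add, hjk]]
      exact (partHom π hπ Γ le_rfl).map_pow ⟨_, hj⟩ _
    rw [hτ] at hne
    have haI : ∀ i ∈ I, a⁻¹ * i * a ∈ I := fun i hi => by
      have hinv : π (h ^ 2 ^ j)⁻¹ = a⁻¹ := (partHom π hπ Γ le_rfl).map_inv ⟨_, hj⟩
      have := hIΓ _ (inv_mem hj) i hi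
      rwa [hinv, inv_inv] at this
    have hst : h ^ 2 ^ j ∈ St := ⟨hj, pure_stab hr2 hI hI2 hp haI hv hv0 hy₀ hne⟩
    have hpow : ∀ n : ℕ, ∀ y : Y, (((πY (h ^ 2 ^ j)) ^ n) y : X) = (a ^ n) y := by
      intro n
      induction n with
      | zero => intro y; rfl
      | succ n ih =>
        intro y
        rw [pow_succ, pow_succ, LinearEquiv.mul_apply, LinearEquiv.mul_apply, ih,
          restrPiece_coe hst.2]
    have hPY : plane k a ≤ Y := by
      set w := (a ^ 2 ^ (k - 1)) y₀ - y₀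
      have hwY : w ∈ Y := by
        refine Submodule.sub_mem _ ?_ hy₀
        rw [← hpow _ ⟨y₀, hy₀⟩]; exact Subtype.coe_prop _
      have hwP : w ∈ plane k a := by
        show (a ^ 2 ^ (k - 1)) w = -w
        rw [map_sub, ← LinearEquiv.mul_apply, hp.tau_sq, neg_sub]; rfl
      have := hp.eq_of_invariant (Y := plane k a ⊓ Y) inf_le_left
        (fun y hy => ⟨hp.apply_mem hy.1, hst.2 y hy.2⟩)
        ((Submodule.ne_bot_iff _).mpr ⟨w, ⟨hwP, hwY⟩, sub_ne_zero.mpr hne⟩)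
      exact this ▸ inf_le_right
    refine ⟨?_, Or.inr ⟨hst, hp.two_le, hp.mer, hisoY _ hst, ?_, ?_, fun y hy => ?_⟩⟩
    · rw [show h ^ 2 ^ m = (h ^ 2 ^ j) ^ 2 ^ (k - 1) by rw [← pow_mul, ← pow_add, hjk]]
      exact pow_mem hst _
    · refine LinearEquiv.ext fun y => Subtype.ext ?_
      rw [hpow, hp.order]; rfl
    · refine Eq.trans ?_ hp.rank
      rw [← (Submodule.comapSubtypeEquivOfLe hPY).finrank_eq]
      have : plane k (πY (h ^ 2 ^ j)) = (plane k a).comap Y.subtype := by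
        ext y
        rw [Submodule.mem_comap, mem_plane, mem_plane, Subtype.ext_iff, hpow]
        rfl
      rw [this]
    · refine Subtype.ext ?_
      rw [restrPiece_coe hst.2]
      exact hp.fix _ (by rw [← hpow]; exact congrArg Subtype.val hy)
  refine ⟨hKerSt, fun g hg => H28.TwoLength.mem_norm fun x hx => hKer _
    (mul_mem (mul_mem hg (hKerSt hx)) (inv_mem hg)) ?_, fun z b hz => (hpureY z b hz).1,
    fun A hAn hAT hAS B hBn hBA hAB z b hz t ht => ?_⟩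
  · rw [hmul _ (mul_mem hg (hKerSt hx)) _ (inv_mem hg), hmul _ hg _ (hKerSt hx), hKer' x hx,
      mul_one, ← hmul _ hg _ (inv_mem hg), mul_inv_cancel]
    exact (partHom πY hmul St le_rfl).map_one
  haveI := hAn
  have hAp : IsPGroup 2 A := hT.to_le hAT
  have hx : (t * z) ^ 2 ^ m * (z ^ 2 ^ m)⁻¹ ∈ A := by
    rw [← QuotientGroup.eq_one_iff, QuotientGroup.mk_mul, QuotientGroup.mk_inv,
      QuotientGroup.mk_pow, QuotientGroup.mk_pow, QuotientGroup.mk_mul,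
      (QuotientGroup.eq_one_iff t).mpr ht, one_mul, mul_inv_cancel]
  have hsec := leaf_sec (F := FY) St πY hmul hisoY A hAp hAS
    (scalar_of_maximal hr2 Γ π hπ hiso hI hI2 hIΓ hmax hv hv0 A hAS hmul) hjk hpureY z b hz t ht
  have hrange : (partHom πY hmul A hAS).range =
      (partHom πY hmul B (hBA.trans hAS)).range := by
    refine le_antisymm ?_ ?_
    · rintro _ ⟨⟨x, hxA⟩, rfl⟩
      obtain ⟨y, hy, κ, hκ, rfl⟩ := Subgroup.mem_sup_of_normal_left.mp (hAB hxA)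
      refine ⟨⟨y, hy⟩, ?_⟩
      show πY y = πY (y * κ)
      rw [hmul _ (hAS (hBA hy)) _ (hKerSt hκ), hKer' κ hκ, mul_one]
    · rintro _ ⟨⟨y, hy⟩, rfl⟩
      exact ⟨⟨y, hBA hy⟩, rfl⟩
  rw [hrange] at hsec
  obtain ⟨y, hy, hyx⟩ := partHom_frat πY hmul (hBA.trans hAS) (hAp.to_le hBA) hsec
  rw [← mul_inv_cancel_left y ((t * z) ^ 2 ^ m * (z ^ 2 ^ m)⁻¹)]
  refine mul_mem (Subgroup.mem_sup_left hy) (Subgroup.mem_sup_right ?_)
  have hys : y ∈ St := hAS (hBA (frat_le B hy))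
  refine hKer _ (mul_mem (inv_mem hys) (hAS hx)) ?_
  rw [hmul _ (inv_mem hys) _ (hAS hx),
    show πY y⁻¹ = (πY y)⁻¹ from (partHom πY hmul St le_rfl).map_inv ⟨y, hys⟩, hyx, inv_mul_cancel]

end H51.Bryu
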