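import Cfsg.Agent.H28.TwoLength.LinBase
import Cfsg.Agent.H6.Basic
import Mathlib.FieldTheory.Finite.Basic
import Mathlib.GroupTheory.Frattini
import Mathlib.LinearAlgebra.FiniteDimensional.Lemmas

/-!
Pure elements of a symplectic space over a prime field: isometries of `2`-power order whose
involution inverts a plane and which fix the complement pointwise.
-/

set_option autoImplicit false
set_option linter.style.haveILetI false
set_option linter.unusedSectionVars false

namespace H51.Bryu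

open Module
open scoped commutatorElement

universe u v w

/-- A bimultiplicative alternating pairing without radical. -/
structure PairingForm (r : ℕ) (K : Type v) (X : Type w) [Field K] [AddCommGroup X]
    [Module (ZMod r) X] where
  b : X → X → K
  add_left : ∀ x x' y, b (x + x') y = b x y * b x' y
  add_right : ∀ x y y', b x (y + y') = b x y * b x y'
  self : ∀ x, b x x = 1
  ne_zero : ∀ x y, b x y ≠ 0
  nondeg : ∀ x, (∀ y, b x y = 1) → x = 0

variable {r : ℕ} [Fact r.Prime] {K : Type v} [Field K]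
variable {X : Type w} [AddCommGroup X] [Module (ZMod r) X]

namespace PairingForm

variable (F : PairingForm r K X)

theorem zero_left (y : X) : F.b 0 y = 1 := by
  have h := F.add_left 0 0 y
  rw [add_zero] at h
  exact (mul_eq_left₀ (F.ne_zero 0 y)).mp h.symm

theorem zero_right (y : X) : F.b y 0 = 1 := by
  have h := F.add_right y 0 0
  rw [add_zero] at h
  exact (mul_eq_left₀ (F.ne_zero y 0)).mp h.symm

theorem nsmul_left (n : ℕ) (x y : X) : F.b (n • x) y = F.b x y ^ n := by
  induction n with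
  | zero => rw [zero_smul, F.zero_left, pow_zero]
  | succ n ih => rw [succ_nsmul, F.add_left, ih, pow_succ]

theorem nsmul_right (n : ℕ) (x y : X) : F.b x (n • y) = F.b x y ^ n := by
  induction n with
  | zero => rw [zero_smul, F.zero_right, pow_zero]
  | succ n ih => rw [succ_nsmul, F.add_right, ih, pow_succ]

theorem smul_left (c : ZMod r) (x y : X) : F.b (c • x) y = F.b x y ^ c.val := by
  rw [← F.nsmul_left, ← Nat.cast_smul_eq_nsmul (ZMod r), ZMod.natCast_zmod_val]

theorem smul_right (c : ZMod r) (x y : X) : F.b x (c • y) = F.b x y ^ c.val := by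
  rw [← F.nsmul_right, ← Nat.cast_smul_eq_nsmul (ZMod r), ZMod.natCast_zmod_val]

theorem pow_r (x y : X) : F.b x y ^ r = 1 := by
  rw [← F.nsmul_left, ← Nat.cast_smul_eq_nsmul (ZMod r), ZMod.natCast_self, zero_smul, F.zero_left]

theorem swap (x y : X) : F.b x y * F.b y x = 1 := by
  have h := F.self (x + y)
  rwa [F.add_left, F.add_right, F.add_right, F.self, F.self, one_mul, mul_one] at h

theorem orth_symm {x y : X} (h : F.b x y = 1) : F.b y x = 1 := by
  simpa [h] using F.swap x y

/-- Isometries. -/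
def IsIso (g : X ≃ₗ[ZMod r] X) : Prop := ∀ x y, F.b (g x) (g y) = F.b x y

/-- The group of isometries. -/
def iso : Subgroup (X ≃ₗ[ZMod r] X) where
  carrier := {g | F.IsIso g}
  one_mem' := fun x y => by simp
  mul_mem' := fun {g h} hg hh x y => by rw [LinearEquiv.mul_apply, LinearEquiv.mul_apply, hg, hh]
  inv_mem' := fun {g} hg x y => by
    conv_rhs => rw [← g.apply_symm_apply x, ← g.apply_symm_apply y]
    exact (hg (g.symm x) (g.symm y)).symm

theorem mem_iso {g : X ≃ₗ[ZMod r] X} : g ∈ F.iso ↔ F.IsIso g := Iff.rfl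

end PairingForm

/-- The plane inverted by the involution of `a`. -/
def plane (k : ℕ) (a : X ≃ₗ[ZMod r] X) : Submodule (ZMod r) X where
  carrier := {x | (a ^ 2 ^ (k - 1)) x = -x}
  zero_mem' := by simp
  add_mem' := fun {x y} hx hy => by
    simp only [Set.mem_ofPred_eq] at hx hy ⊢
    rw [map_add, hx, hy, neg_add]
  smul_mem' := fun c x hx => by
    simp only [Set.mem_ofPred_eq] at hx ⊢
    rw [map_smul, hx, smul_neg]

theorem mem_plane {k : ℕ} {a : X ≃ₗ[ZMod r] X} {x : X} :
    x ∈ plane k a ↔ (a ^ 2 ^ (k - 1)) x = -x := Iff.rfl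

/-- A pure element of level `k`. -/
structure Pure (F : PairingForm r K X) (k : ℕ) (a : X ≃ₗ[ZMod r] X) : Prop where
  two_le : 2 ≤ k
  mer : r + 1 = 2 ^ k
  iso : a ∈ F.iso
  order : a ^ 2 ^ k = 1
  rank : finrank (ZMod r) (plane k a) = 2
  fix : ∀ x, (a ^ 2 ^ (k - 1)) x = x → a x = x

theorem pow_fix {g : X ≃ₗ[ZMod r] X} {x : X} (h : g x = x) (n : ℕ) : (g ^ n) x = x := by
  induction n with
  | zero => simp
  | succ n ih => rw [pow_succ, LinearEquiv.mul_apply, h, ih]

theorem eq_self_of_eq_neg (hr2 : r ≠ 2) {x : X} (h : x = -x) : x = 0 := by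
  have h2 : (2 : ZMod r) • x = 0 := by rw [two_smul]; nth_rw 2 [h]; rw [add_neg_cancel]
  exact (smul_eq_zero.mp h2).resolve_left (H28.TwoLength.two_ne_zero' hr2)

namespace Pure

variable {F : PairingForm r K X} {k : ℕ} {a : X ≃ₗ[ZMod r] X}

theorem odd_r (h : Pure F k a) : r ≠ 2 := by
  intro h2
  have hm := h.mer
  obtain ⟨k', rfl⟩ : ∃ k', k = k' + 2 := ⟨k - 2, by have := h.two_le; omega⟩
  rw [h2, pow_add] at hm
  omega

theorem tau_sq (h : Pure F k a) : a ^ 2 ^ (k - 1) * a ^ 2 ^ (k - 1) = 1 := by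
  rw [← pow_add, ← two_mul, ← pow_succ', show k - 1 + 1 = k by have := h.two_le; omega, h.order]

theorem tau_mem_iso (h : Pure F k a) : a ^ 2 ^ (k - 1) ∈ F.iso := pow_mem h.iso _

theorem apply_mem (_h : Pure F k a) {x : X} (hx : x ∈ plane k a) : a x ∈ plane k a := by
  rw [mem_plane] at hx ⊢
  rw [← LinearEquiv.mul_apply, ← pow_succ, pow_succ', LinearEquiv.mul_apply, hx, map_neg]

theorem split (h : Pure F k a) (x : X) : ∃ p ∈ plane k a, ∃ q, a q = q ∧ x = p + q := by
  set T := a ^ 2 ^ (k - 1) with hT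
  have hTT : T (T x) = x := by
    rw [← LinearEquiv.mul_apply, h.tau_sq]; rfl
  set c : ZMod r := (2 : ZMod r)⁻¹ with hc
  have h2 : c * 2 = 1 := inv_mul_cancel₀ (H28.TwoLength.two_ne_zero' h.odd_r)
  refine ⟨c • (x - T x), ?_, c • (x + T x), h.fix _ ?_, ?_⟩
  · rw [mem_plane, ← hT, map_smul, map_sub, hTT, ← smul_neg, neg_sub]
  · rw [← hT, map_smul, map_add, hTT, add_comm]
  · rw [← smul_add, show x - T x + (x + T x) = (2 : ZMod r) • x by rw [two_smul]; abel,
      smul_smul, h2, one_smul]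

theorem orth (h : Pure F k a) {p q : X} (hp : p ∈ plane k a) (hq : a q = q) : F.b p q = 1 := by
  have h1 := h.tau_mem_iso p q
  rw [mem_plane.mp hp, pow_fix hq] at h1
  have h2 : F.b p q * F.b p q = 1 := by
    nth_rw 1 [← h1]
    rw [← F.add_left, neg_add_cancel, F.zero_left]
  obtain ⟨t, ht⟩ := (Fact.out : r.Prime).odd_of_ne_two h.odd_r
  have h3 := F.pow_r p q
  have h4 : F.b p q ^ (2 * t + 1) = 1 := (congrArg (fun n => F.b p q ^ n) ht.symm).trans h3
  rwa [pow_succ, pow_mul, sq, h2, one_pow, one_mul] at h4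

theorem nondeg_plane (h : Pure F k a) {p : X} (hp : p ∈ plane k a)
    (hd : ∀ q ∈ plane k a, F.b p q = 1) : p = 0 := by
  refine F.nondeg p fun y => ?_
  obtain ⟨y₁, hy₁, y₂, hy₂, rfl⟩ := h.split y
  rw [F.add_right, hd y₁ hy₁, h.orth hp hy₂, one_mul]

theorem sub_mem (h : Pure F k a) (x : X) : a x - x ∈ plane k a := by
  obtain ⟨p, hp, q, hq, rfl⟩ := h.split x
  rw [map_add, hq, add_sub_add_right_eq_sub]
  exact Submodule.sub_mem _ (h.apply_mem hp) hp

theorem fix_of_orth (h : Pure F k a) {x : X} (hx : ∀ p ∈ plane k a, F.b p x = 1) : a x = x := by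
  obtain ⟨p, hp, q, hq, rfl⟩ := h.split x
  have hp0 : p = 0 := h.nondeg_plane hp fun p' hp' => by
    have h1 := hx p' hp'
    rw [F.add_right, h.orth hp' hq, mul_one] at h1
    exact F.orth_symm h1
  rw [hp0, zero_add, hq]

theorem eq_zero_of_fix (h : Pure F k a) {p : X} (hp : p ∈ plane k a) (hf : a p = p) : p = 0 := by
  refine eq_self_of_eq_neg h.odd_r ?_
  rw [← mem_plane.mp hp, pow_fix hf]

theorem coe_pow_apply (g : X ≃ₗ[ZMod r] X) (n : ℕ) (x : X) :
    (g.toLinearMap ^ n) x = (g ^ n) x := by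
  induction n generalizing x with
  | zero => simp
  | succ n ih => rw [pow_succ, pow_succ, Module.End.mul_apply, ih, LinearEquiv.mul_apply]; rfl

theorem no_eigen (h : Pure F k a) {v : X} (hv : v ∈ plane k a) (hv0 : v ≠ 0) (c : ZMod r) :
    a v ≠ c • v :=
  H28.TwoLength.no_eigen' h.two_le h.mer a.toLinearMap hv0
    (by rw [coe_pow_apply]; exact mem_plane.mp hv) c

theorem finite (h : Pure F k a) : FiniteDimensional (ZMod r) (plane k a) :=
  Module.finite_of_finrank_eq_succ h.rank

theorem eq_of_invariant (h : Pure F k a) {Y : Submodule (ZMod r) X} (hY : Y ≤ plane k a)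
    (hinv : ∀ y ∈ Y, a y ∈ Y) (hne : Y ≠ ⊥) : Y = plane k a := by
  obtain ⟨v, hv, hv0⟩ := (Submodule.ne_bot_iff Y).mp hne
  have hli : LinearIndependent (ZMod r) ![v, a v] :=
    (LinearIndependent.pair_iff' hv0).mpr fun c => (h.no_eigen (hY hv) hv0 c).symm
  haveI := h.finite
  refine Submodule.eq_of_le_of_finrank_le hY ?_
  have hle : Submodule.span (ZMod r) (Set.range ![v, a v]) ≤ Y :=
    Submodule.span_le.mpr (by
      rintro _ ⟨i, rfl⟩
      fin_cases i
      · exact hv
      · exact hinv v hv)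
  haveI : FiniteDimensional (ZMod r) Y := Submodule.finiteDimensional_of_le hY
  have := Submodule.finrank_mono hle
  rw [finrank_span_eq_card hli, Fintype.card_fin] at this
  rw [h.rank]
  exact this

theorem tau_conj (g : X ≃ₗ[ZMod r] X) (x : X) :
    ((g * a * g⁻¹) ^ 2 ^ (k - 1)) x = g ((a ^ 2 ^ (k - 1)) (g⁻¹ x)) := by
  rw [conj_pow, LinearEquiv.mul_apply, LinearEquiv.mul_apply]

theorem conj (h : Pure F k a) {g : X ≃ₗ[ZMod r] X} (hg : g ∈ F.iso) :
    Pure F k (g * a * g⁻¹) ∧ plane k (g * a * g⁻¹) = (plane k a).map g.toLinearMap := by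
  have hg1 : ∀ x, g⁻¹ (g x) = x := fun x => g.symm_apply_apply x
  have hg2 : ∀ x, g (g⁻¹ x) = x := fun x => g.apply_symm_apply x
  have hpl : plane k (g * a * g⁻¹) = (plane k a).map g.toLinearMap := by
    ext x
    rw [Submodule.mem_map, mem_plane, tau_conj]
    constructor
    · intro hx
      refine ⟨g⁻¹ x, ?_, hg2 x⟩
      rw [mem_plane]
      have := congrArg (g⁻¹ : X ≃ₗ[ZMod r] X) hx
      rwa [hg1, map_neg] at this
    · rintro ⟨y, hy, rfl⟩
      show g ((a ^ 2 ^ (k - 1)) (g⁻¹ (g y))) = -(g y)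
      rw [hg1, mem_plane.mp hy, map_neg]
  refine ⟨⟨h.two_le, h.mer, mul_mem (mul_mem hg h.iso) (inv_mem hg), ?_, ?_, fun x hx => ?_⟩, hpl⟩
  · rw [conj_pow, h.order, mul_one, mul_inv_cancel]
  · rw [hpl, ← h.rank]
    exact (g.submoduleMap (plane k a)).finrank_eq.symm
  · rw [tau_conj] at hx
    have h1 := congrArg (g⁻¹ : X ≃ₗ[ZMod r] X) hx
    rw [hg1] at h1
    rw [LinearEquiv.mul_apply, LinearEquiv.mul_apply, h.fix _ h1, hg2]

end Pure

variable {F : PairingForm r K X} {k : ℕ} {a a' : X ≃ₗ[ZMod r] X}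

theorem Pure.fixes_symm (h : Pure F k a) (h' : Pure F k a')
    (hf : ∀ p ∈ plane k a', a p = p) : ∀ p ∈ plane k a, a' p = p := fun _p hp =>
  h'.fix_of_orth fun q hq => F.orth_symm (h.orth hp (hf q hq))

theorem Pure.commute_of_fixes (h : Pure F k a) (h' : Pure F k a')
    (hf : ∀ p ∈ plane k a', a p = p) : Commute a a' := by
  refine LinearEquiv.ext fun x => ?_
  rw [LinearEquiv.mul_apply, LinearEquiv.mul_apply]
  obtain ⟨p, hp, q, hq, rfl⟩ := h.split x
  have hfs := h.fixes_symm h' hf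
  have h1 : a (a' q) = a' q := by
    have h2 := hf _ (h'.sub_mem q)
    rw [map_sub, hq] at h2
    exact sub_left_injective h2
  simp only [map_add, hfs p hp, hq, h1, hfs _ (h.apply_mem hp)]

/-- A pure element fixes a plane all of whose translates are equal or orthogonal to it. -/
theorem Pure.fix_plane (h : Pure F k a) (h' : Pure F k a')
    (hd : ∀ i : ℕ, (∀ w ∈ plane k a, (a' ^ i) w ∈ plane k a) ∨
      ∀ w ∈ plane k a, ∀ w' ∈ plane k a, F.b w ((a' ^ i) w') = 1) :
    ∀ w ∈ plane k a, a' w ∈ plane k a := by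
  rcases hd 1 with h1 | h1
  · simpa using h1
  simp only [pow_one] at h1
  have hW0 : ∀ w ∈ plane k a, a' w ∈ plane k a → w = 0 := by
    intro w hw haw
    refine a'.map_eq_zero_iff.mp (h.nondeg_plane haw fun q hq => F.orth_symm (h1 q hq w hw))
  let φ : plane k a →ₗ[ZMod r] plane k a' :=
    { toFun := fun w => ⟨a' w - w, h'.sub_mem _⟩
      map_add' := fun v w => Subtype.ext (by
        show a' ((v : X) + w) - ((v : X) + w) = (a' v - v) + (a' w - w)
        rw [map_add]; abel)
      map_smul' := fun c w => Subtype.ext (by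
        show a' (c • (w : X)) - c • (w : X) = c • (a' w - w)
        rw [map_smul, smul_sub]) }
  have hinj : Function.Injective φ := by
    rw [← LinearMap.ker_eq_bot, Submodule.eq_bot_iff]
    intro w hw
    rw [LinearMap.mem_ker] at hw
    have h2 : a' (w : X) = w := sub_eq_zero.mp (congrArg Subtype.val hw)
    exact Subtype.ext (hW0 w w.2 (h2.symm ▸ w.2))
  haveI := h.finite
  haveI := h'.finite
  have hsurj : Function.Surjective φ :=
    (LinearMap.injective_iff_surjective_of_finrank_eq_finrank (h.rank.trans h'.rank.symm)).mp hinj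
  intro w hw
  suffices w = 0 by rw [this, map_zero]; exact Submodule.zero_mem _
  obtain ⟨⟨w', hw'⟩, hφ⟩ := hsurj ⟨a' (a' w - w), h'.apply_mem (h'.sub_mem w)⟩
  have h3 : a' w' - w' = a' (a' w) - a' w := by
    rw [← map_sub]; exact congrArg Subtype.val hφ
  have h4 : w' = a' (w + w') - a' (a' w) := by
    rw [map_add]
    have h5 : a' (a' w) = a' w' - w' + a' w := by rw [h3, sub_add_cancel]
    rw [h5]; abel
  have hp2 : ∀ x, (a' ^ 2) x = a' (a' x) := fun x => by rw [pow_two, LinearEquiv.mul_apply]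
  rcases hd 2 with h2 | h2
  · have h6 : a' (w + w') ∈ plane k a := by
      rw [show a' (w + w') = w' + a' (a' w) by nth_rw 2 [h4]; abel]
      exact Submodule.add_mem _ hw' (hp2 w ▸ h2 w hw)
    have h7 := hW0 _ (Submodule.add_mem _ hw hw') h6
    rw [h7, map_zero, zero_sub, ← neg_eq_iff_eq_neg] at h4
    have h8 : (a' ^ 2) w = w := by
      rw [hp2, ← h4]; exact eq_neg_of_add_eq_zero_left h7 |>.symm
    have h9 : (a' ^ 2 ^ (k - 1)) w = w := by
      rw [show 2 ^ (k - 1) = 2 * 2 ^ (k - 2) by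
        rw [← pow_succ', show k - 2 + 1 = k - 1 by have := h.two_le; omega], pow_mul]
      exact pow_fix h8 _
    exact hW0 w hw ((h'.fix w h9).symm ▸ hw)
  · have h6 : w' = 0 := h.nondeg_plane hw' fun q hq => F.orth_symm (by
      rw [h4, sub_eq_add_neg, F.add_right, h1 q hq _ (Submodule.add_mem _ hw hw'), one_mul,
        ← map_neg, ← map_neg, ← hp2]
      exact h2 q hq _ (Submodule.neg_mem _ hw))
    rw [h6, map_zero, sub_zero] at h3
    have h7 : a' w = w := a'.injective (sub_eq_zero.mp h3.symm)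
    exact hW0 w hw (h7.symm ▸ hw)

/-- The normal closure of an element inside a subgroup. -/
def conjClosure {G : Type u} [Group G] (S : Subgroup G) (a : G) : Subgroup G :=
  Subgroup.closure {x | ∃ s ∈ S, s * a * s⁻¹ = x}

theorem conjClosure_le {G : Type u} [Group G] {S : Subgroup G} {a : G} (ha : a ∈ S) :
    conjClosure S a ≤ S :=
  (Subgroup.closure_le S).mpr (by
    rintro _ ⟨s, hs, rfl⟩
    exact mul_mem (mul_mem hs ha) (inv_mem hs))

theorem conj_mem_conjClosure {G : Type u} [Group G] {S : Subgroup G} {a s : G} (hs : s ∈ S) :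
    s * a * s⁻¹ ∈ conjClosure S a :=
  Subgroup.subset_closure ⟨s, hs, rfl⟩

theorem eq_zpowers_of_conjClosure {G : Type u} [Group G] {S : Subgroup G} [Finite S] {a : G}
    (hS : IsPGroup 2 S) (ha : a ∈ S) (h : conjClosure S a = S) : S ≤ Subgroup.zpowers a := by
  haveI := Fact.mk Nat.prime_two
  have key : Subgroup.zpowers (⟨a, ha⟩ : S) ⊔ frattini S = ⊤ := by
    set U := Subgroup.zpowers (⟨a, ha⟩ : S) ⊔ frattini S
    rw [eq_top_iff]
    rintro ⟨x, hx⟩ -
    have hle : conjClosure S a ≤ U.map S.subtype := by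
      refine (Subgroup.closure_le _).mpr ?_
      rintro _ ⟨s, hs, rfl⟩
      refine ⟨⁅(⟨s, hs⟩ : S), ⟨a, ha⟩⁆ * ⟨a, ha⟩, mul_mem ?_ ?_, ?_⟩
      · exact Subgroup.mem_sup_right (H6.commutator_le_frattini hS
          (Subgroup.commutator_mem_commutator trivial trivial))
      · exact Subgroup.mem_sup_left (Subgroup.mem_zpowers _)
      · show ⁅s, a⁆ * a = _
        rw [commutatorElement_def]; group
    obtain ⟨y, hy, hyx⟩ := hle (h.symm ▸ hx : x ∈ conjClosure S a)
    rwa [show y = ⟨x, hx⟩ from Subtype.ext hyx] at hy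
  have hz := frattini_nongenerating key
  intro x hx
  obtain ⟨i, hi⟩ := Subgroup.mem_zpowers_iff.mp
    (hz.symm ▸ Subgroup.mem_top (⟨x, hx⟩ : S) :
      (⟨x, hx⟩ : S) ∈ Subgroup.zpowers (⟨a, ha⟩ : S))
  exact Subgroup.mem_zpowers_iff.mpr ⟨i, congrArg Subtype.val hi⟩

theorem plane_apply_of_commute {g : X ≃ₗ[ZMod r] X} (hg : Commute g a) {x : X}
    (hx : x ∈ plane k a) : g x ∈ plane k a := by
  rw [mem_plane] at hx ⊢
  rw [← LinearEquiv.mul_apply, ← (hg.pow_right _).eq, LinearEquiv.mul_apply, hx, map_neg]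

/-- In a `2`-group of isometries the planes of conjugate pure elements are equal or orthogonal. -/
theorem plane_cases [Finite X] : ∀ (S : Subgroup (X ≃ₗ[ZMod r] X)), IsPGroup 2 S → S ≤ F.iso →
    ∀ a ∈ S, Pure F k a → ∀ g ∈ S, (plane k a).map g.toLinearMap = plane k a ∨
      ∀ p ∈ plane k a, (g * a * g⁻¹) p = p := by
  haveI : Finite (X ≃ₗ[ZMod r] X) := Finite.of_injective _ DFunLike.coe_injective
  intro S
  induction S using WellFoundedLT.induction with
  | _ S ih =>
    intro hS hSi a ha hpa g hg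
    have hcom : Commute g a → (plane k a).map g.toLinearMap = plane k a := fun hc => by
      haveI := hpa.finite
      refine Submodule.eq_of_le_of_finrank_eq ?_ (g.submoduleMap (plane k a)).finrank_eq.symm
      rintro _ ⟨x, hx, rfl⟩
      exact plane_apply_of_commute hc hx
    rcases eq_or_lt_of_le (conjClosure_le ha : conjClosure S a ≤ S) with hM | hM
    · left
      haveI : Finite S := inferInstance
      obtain ⟨i, rfl⟩ := Subgroup.mem_zpowers_iff.mp (eq_zpowers_of_conjClosure hS ha hM hg)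
      exact hcom ((Commute.refl a).zpow_left i)
    set M := conjClosure S a
    set a' := g * a * g⁻¹ with ha'
    obtain ⟨hpa', hpl⟩ := hpa.conj (hSi hg)
    have haM : a ∈ M := by
      simpa using (conj_mem_conjClosure (S := S) (a := a) (one_mem S))
    have hd : ∀ i : ℕ, (∀ w ∈ plane k a, (a' ^ i) w ∈ plane k a) ∨
        ∀ w ∈ plane k a, ∀ w' ∈ plane k a, F.b w ((a' ^ i) w') = 1 := by
      intro i
      have hi : a' ^ i ∈ M := pow_mem (conj_mem_conjClosure hg) i
      rcases ih M hM (hS.to_le hM.le) (hM.le.trans hSi) a haM hpa _ hi with h | h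
      · refine Or.inl fun w hw => ?_
        rw [← h]
        exact ⟨w, hw, rfl⟩
      · refine Or.inr fun w hw w' hw' => ?_
        obtain ⟨hc, hcp⟩ := hpa.conj (hSi (hM.le hi))
        exact F.orth_symm (hc.orth (hcp ▸ ⟨w', hw', rfl⟩) (h w hw))
    have hfix := hpa.fix_plane hpa' hd
    by_cases hP : ∀ p ∈ plane k a, a' p = p
    · exact Or.inr hP
    push Not at hP
    obtain ⟨p, hp, hne⟩ := hP
    left
    rw [← hpl]
    set Y := plane k a ⊓ plane k a'
    have hY : Y = plane k a' := by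
      refine hpa'.eq_of_invariant inf_le_right
        (fun y hy => ⟨hfix y hy.1, hpa'.apply_mem hy.2⟩) ?_
      rw [Submodule.ne_bot_iff]
      exact ⟨a' p - p, ⟨Submodule.sub_mem _ (hfix p hp) hp, hpa'.sub_mem p⟩, sub_ne_zero.mpr hne⟩
    haveI := hpa.finite
    exact Submodule.eq_of_le_of_finrank_eq (hY ▸ inf_le_left) (hpa'.rank.trans hpa.rank.symm)

end H51.Bryu
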