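import Cfsg.Agent.H51.Bryu.Section
import Cfsg.Agent.H28.TwoLength.Main
import Cfsg.Agent.H28.TwoLength.Bound
import Cfsg.Agent.H89.CoprimeSmall
import Cfsg.Agent.H6.AutPGroup
import Cfsg.Agent.H16.OddOrder

/-!
Bryukhanova's bound on the `2`-length.
-/

set_option autoImplicit false
set_option linter.style.haveILetI false
set_option linter.unusedSectionVars false

namespace H51.Bryu

open Cfsg H32.PSeries
open scoped commutatorElement

universe u v w

section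

variable {H : Type u} [Group H] [Finite H]
variable {K : Type v} [Field K] [CharP K 2] [IsAlgClosed K]
variable {W : Type w} [AddCommGroup W] [Module K W] [FiniteDimensional K W]

/-- The leaves detect the `2`-elements. -/
theorem leaves_faithful (hH : Group.IsSolvable H) (ρ : H →* Module.End K W)
    (hρ : Function.Injective ρ) (hO : pCore 2 H = ⊥) (m : ℕ)
    (hexp : ∀ (z : H) (b : ℕ), z ^ 2 ^ b = 1 → z ^ 2 ^ (m + 1) = 1)
    (hdef : ∀ (z : H) (b : ℕ), z ^ 2 ^ b = 1 → ∑ i ∈ Finset.range (2 ^ (m + 1)), ρ z ^ i = 0)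
    (hfix : ∀ (r : ℕ) [Fact r.Prime] (C Z : Subgroup H) [C.Normal] [Z.Normal], r ≠ 2 →
      IsPGroup r C → (∀ x ∈ C, ∀ y ∈ C, ⁅x, y⁆ ∈ Z) → Z ≤ C →
      Z ≤ Subgroup.centralizer (C : Set H) → (∀ x ∈ C, x ^ r ∈ Z) →
      ∀ (μ : H → K) (v : W), v ≠ 0 → (∀ c ∈ Z, ρ c v = μ c • v) → FixMemProp ρ r C Z m μ)
    {N : Subgroup H} (T : Subgroup N) (hT : IsPGroup 2 T) (t : N) (ht : t ∈ T)
    (hker : ∀ p : Subgroup N × Subgroup N, IsLeafPair T m p.1 p.2 → t ∈ p.2) : t = 1 := by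
  classical
  haveI := hH
  obtain ⟨n, hn⟩ := hT ⟨t, ht⟩
  have ht2 : (t : H) ^ 2 ^ n = 1 := congrArg (fun x : T => ((x : N) : H)) hn
  refine Subtype.ext (H28.TwoLength.eq_one_of_centralizes_cores inferInstance hO ht2 fun r hr => ?_)
  haveI := Fact.mk hr
  rcases eq_or_ne r 2 with rfl | hr2
  · rw [hO, Subgroup.mem_centralizer_iff]
    intro x hx
    rw [Subgroup.coe_bot, Set.mem_singleton_iff] at hx
    rw [hx, one_mul, mul_one]
  set O := pCore r H with hO'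
  haveI : O.Normal := by rw [hO']; exact H10.pCore_normal
  have hOp : IsPGroup r O := H10.pCore_isPGroup
  obtain ⟨K₀, hK₀, hK₀c, hK₀comm, hK₀pow⟩ := H89.exists_critical hOp
  haveI := hK₀
  set C := K₀.map O.subtype with hC
  haveI hCn : C.Normal := by rw [hC]; infer_instance
  set Z := C ⊓ Subgroup.centralizer (C : Set H) with hZ
  haveI : (Subgroup.centralizer (C : Set H)).Normal := Subgroup.normal_centralizer
  haveI hZn : Z.Normal := by rw [hZ]; infer_instance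
  have hCp : IsPGroup r C := hOp.to_le (Subgroup.map_subtype_le _) |>.to_le le_rfl
  have hlift : ∀ y : O, y ∈ K₀ ⊓ Subgroup.centralizer (K₀ : Set O) → (y : H) ∈ Z := fun y hy =>
    ⟨⟨y, hy.1, rfl⟩, Subgroup.mem_centralizer_iff.mpr fun _ ⟨z, hz, hzx⟩ => by
      subst hzx
      exact congrArg Subtype.val (Subgroup.mem_centralizer_iff.mp hy.2 z hz)⟩
  have hcom : ∀ x ∈ C, ∀ y ∈ C, ⁅x, y⁆ ∈ Z := by
    rintro _ ⟨x, hx, rfl⟩ _ ⟨y, -, rfl⟩
    rw [← map_commutatorElement]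
    exact hlift _ (hK₀comm x hx y)
  have hpow : ∀ x ∈ C, x ^ r ∈ Z := by
    rintro _ ⟨x, hx, rfl⟩
    rw [← map_pow]
    exact hlift _ (hK₀pow x hx)
  have hZC : Z ≤ C := inf_le_left
  have hZc : Z ≤ Subgroup.centralizer (C : Set H) := inf_le_right
  have hZcomm : ∀ a ∈ Z, ∀ b ∈ Z, Commute a b := fun a ha b hb =>
    Subgroup.mem_centralizer_iff.mp (hZc hb) a (hZC ha)
  have hodd := H28.TwoLength.odd_card hr2 (hCp.to_le hZC)
  have hsys : ∀ (μ : H → K) (v : W), v ≠ 0 → (∀ c ∈ Z, ρ c v = μ c • v) →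
      (∀ c ∈ Z, μ ((t : H) * c * (t : H)⁻¹) = μ c) ∧
        ∀ x ∈ C, ∀ y ∈ C, μ ⁅x⁻¹ * ((t : H) * x * (t : H)⁻¹), y⁆ = 1 := by
    intro μ v hv hμ
    obtain ⟨𝓛, h𝓛, hfaith⟩ := exists_section_leaves ρ hρ hr2 C Z hCp hcom hZC hZc hpow m hexp hdef
      μ hv hμ (hfix r C Z hr2 hCp hcom hZC hZc hpow μ v hv hμ) N.subtype T hT
    exact hfaith t fun p hp => hker p (h𝓛 p hp)
  have htZ : ∀ c ∈ Z, (t : H) * c * (t : H)⁻¹ = c := by
    intro c hc
    by_contra hne
    have hc' : (t : H) * c * (t : H)⁻¹ ∈ Z := hZn.conj_mem c hc _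
    obtain ⟨μ, v, hv, hμ, hμne⟩ := H28.TwoLength.exists_system ρ hρ Z hZcomm hodd
      (mul_mem hc' (inv_mem hc)) (fun h => hne (mul_inv_eq_one.mp h))
    have hmul : ∀ a ∈ Z, ∀ b ∈ Z, μ (a * b) = μ a * μ b := fun a ha b hb => by
      apply smul_left_injective K hv
      show μ (a * b) • v = (μ a * μ b) • v
      rw [← hμ _ (mul_mem ha hb), map_mul, Module.End.mul_apply, hμ b hb, map_smul, hμ a ha,
        smul_smul, mul_comm]
    apply hμne
    rw [hmul _ hc' _ (inv_mem hc), (hsys μ v hv hμ).1 c hc, ← hmul _ hc _ (inv_mem hc),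
      mul_inv_cancel]
    apply smul_left_injective K hv
    show μ 1 • v = (1 : K) • v
    rw [← hμ 1 (one_mem Z), map_one, one_smul]; rfl
  have htC : ∀ x ∈ C, (t : H) * x * (t : H)⁻¹ = x := by
    intro x hx
    set d := x⁻¹ * ((t : H) * x * (t : H)⁻¹) with hd
    have hdC : d ∈ C := mul_mem (inv_mem hx) (hCn.conj_mem x hx _)
    have hdZ : d ∈ Z := ⟨hdC, Subgroup.mem_centralizer_iff.mpr fun y hy => by
      by_contra hne
      obtain ⟨μ, v, hv, hμ, hμne⟩ := H28.TwoLength.exists_system ρ hρ Z hZcomm hodd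
        (hcom d hdC y hy) (fun h => hne (commutatorElement_eq_one_iff_commute.mp h).eq.symm)
      exact hμne ((hsys μ v hv hμ).2 x hx y hy)⟩
    have hd1 : d = 1 := by
      refine H28.TwoLength.disp_eq_one (n := (t : H)) (c := x) (by rw [hd]; group) (htZ d hdZ) ?_
      obtain ⟨l, hl⟩ := hCp ⟨d, hdC⟩
      refine Nat.Coprime.coprime_dvd_left (orderOf_dvd_of_pow_eq_one ht2)
        (Nat.Coprime.coprime_dvd_right (orderOf_dvd_of_pow_eq_one (congrArg Subtype.val hl)) ?_)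
      exact ((Nat.coprime_primes Nat.prime_two hr).mpr (Ne.symm hr2)).pow n l
    rw [hd, inv_mul_eq_one] at hd1
    exact hd1.symm
  let a : MulAut O := MulAut.conjNormal (t : H)
  have ha : a = 1 := by
    refine H6.eq_one_of_fixes_self_centralizing hOp hK₀c a ?_ fun x hx =>
      Subtype.ext (htC _ ⟨x, hx, rfl⟩)
    refine Nat.Coprime.coprime_dvd_left (orderOf_dvd_of_pow_eq_one (n := 2 ^ n) ?_)
      (((Nat.coprime_primes Nat.prime_two hr).mpr (Ne.symm hr2)).pow_left n)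
    rw [← map_pow, ht2, map_one]
  rw [Subgroup.mem_centralizer_iff]
  intro x hx
  have h := congrArg Subtype.val (MulEquiv.ext_iff.mp ha ⟨x, hx⟩)
  have h' : (t : H) * x * (t : H)⁻¹ = x := h
  exact (mul_inv_eq_iff_eq_mul.mp h').symm

end

set_option maxHeartbeats 800000 in
/-- One step down the upper series keeps deficiency with the exponent halved. -/
theorem exists_step (H : Type u) [Group H] [Finite H] (hH : Group.IsSolvable H)
    {K : Type v} [Field K] [CharP K 2] [IsAlgClosed K]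
    {W : Type w} [AddCommGroup W] [Module K W] [FiniteDimensional K W]
    (ρ : H →* Module.End K W) (hρ : Function.Injective ρ) (hO : pCore 2 H = ⊥) (m : ℕ)
    (hexp : ∀ (z : H) (b : ℕ), z ^ 2 ^ b = 1 → z ^ 2 ^ (m + 1) = 1)
    (hdef : ∀ (z : H) (b : ℕ), z ^ 2 ^ b = 1 → ∑ i ∈ Finset.range (2 ^ (m + 1)), ρ z ^ i = 0)
    (hfix : ∀ (r : ℕ) [Fact r.Prime] (C Z : Subgroup H) [C.Normal] [Z.Normal], r ≠ 2 →
      IsPGroup r C → (∀ x ∈ C, ∀ y ∈ C, ⁅x, y⁆ ∈ Z) → Z ≤ C →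
      Z ≤ Subgroup.centralizer (C : Set H) → (∀ x ∈ C, x ^ r ∈ Z) →
      ∀ (μ : H → K) (v : W), v ≠ 0 → (∀ c ∈ Z, ρ c v = μ c • v) → FixMemProp ρ r C Z m μ)
    [(pPrimePCore 2 H).Normal] :
    ∃ (n : ℕ) (σ : H ⧸ pPrimePCore 2 H →* Module.End (AlgebraicClosure (ZMod 2))
        (Fin n → AlgebraicClosure (ZMod 2))), Function.Injective σ ∧
      ∀ (x : H ⧸ pPrimePCore 2 H) (b : ℕ), x ^ 2 ^ b = 1 →
        ∑ i ∈ Finset.range (2 ^ m), σ x ^ i = 0 := by
  classical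
  haveI := Fact.mk Nat.prime_two
  haveI := hH
  set K₂ := pPrimePCore 2 H with hK₂
  set R := pPrimeCore 2 H with hR
  haveI : R.Normal := H10.pPrimeCore_normal
  obtain ⟨P⟩ : Nonempty (Sylow 2 H) := inferInstance
  set S₂ := (P : Subgroup H) ⊓ K₂ with hS₂
  set N₀ := Subgroup.normalizer (S₂ : Set H) with hN₀
  have hfr : N₀ ⊔ K₂ = ⊤ := H32.frattini_inf P K₂
  set T := S₂.subgroupOf N₀ with hT'
  haveI : T.Normal := Subgroup.normal_in_normalizer
  have hS₂p : IsPGroup 2 S₂ := P.isPGroup'.to_le inf_le_left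
  have hTp : IsPGroup 2 T := hS₂p.comap_subtype
  set π₀ := QuotientGroup.mk' R
  let f : K₂ →* pCore 2 (H ⧸ R) := (π₀.comp K₂.subtype).codRestrict _ fun k => k.2
  have hf : Function.Surjective f := fun y => by
    obtain ⟨k, hk⟩ := QuotientGroup.mk'_surjective R (y : H ⧸ R)
    exact ⟨⟨k, show π₀ k ∈ pCore 2 (H ⧸ R) from hk ▸ y.2⟩, Subtype.ext hk⟩
  have honto : ∀ x ∈ pCore 2 (H ⧸ R), ∃ s ∈ S₂, π₀ s = x := by
    intro x hx
    have htop := H28.TwoLength.sylow_eq_top_of_isPGroup H10.pCore_isPGroup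
      ((H32.sylowInf P K₂).mapSurjective hf)
    have hmem : (⟨x, hx⟩ : pCore 2 (H ⧸ R)) ∈
        (((H32.sylowInf P K₂).mapSurjective hf : Sylow 2 (pCore 2 (H ⧸ R))) :
          Subgroup (pCore 2 (H ⧸ R))) := by rw [htop]; trivial
    obtain ⟨s, hs, hsx⟩ := hmem
    exact ⟨s, ⟨hs, s.2⟩, congrArg Subtype.val hsx⟩
  have hcentS : Subgroup.centralizer (S₂ : Set H) ≤ K₂ := by
    intro g hg
    refine H10.centralizer_pCore_le (H10.isPSolvable_of_isSolvable : IsPSolvable 2 (H ⧸ R))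
      H10.pPrimeCore_quotient_pPrimeCore ?_
    rw [Subgroup.mem_centralizer_iff]
    intro x hx
    obtain ⟨s, hs, rfl⟩ := honto x hx
    rw [← map_mul, ← map_mul, Subgroup.mem_centralizer_iff.mp hg s hs]
  obtain ⟨n, ρ', hρT, hρC, hρodd, hρdef⟩ := exists_leaf_rep T hTp m
    {p | IsLeafPair T m p.1 p.2} (fun p hp => hp)
    (fun t ht h => leaves_faithful hH ρ hρ hO m hexp hdef hfix T hTp t ht fun p hp => h p hp)
  let φ : N₀ →* H ⧸ K₂ := (QuotientGroup.mk' K₂).comp N₀.subtype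
  have hφ : Function.Surjective φ := fun y => by
    obtain ⟨g, rfl⟩ := QuotientGroup.mk'_surjective K₂ y
    obtain ⟨k, hk, x, hx, rfl⟩ : ∃ k ∈ K₂, ∃ x ∈ N₀, k * x = g :=
      Subgroup.mem_sup_of_normal_left.mp (by rw [sup_comm, hfr]; trivial)
    refine ⟨⟨x, hx⟩, ?_⟩
    show QuotientGroup.mk' K₂ x = QuotientGroup.mk' K₂ (k * x)
    rw [map_mul, show QuotientGroup.mk' K₂ k = 1 from (QuotientGroup.eq_one_iff k).mpr hk, one_mul]
  have hle : φ.ker ≤ ρ'.ker := by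
    intro g hg
    have hgK : (g : H) ∈ K₂ := (QuotientGroup.eq_one_iff _).mp hg
    obtain ⟨s, hs, hsg⟩ := honto (π₀ g) hgK
    have hsN : s ∈ N₀ := Subgroup.le_normalizer hs
    set y : N₀ := (⟨s, hsN⟩ : N₀)⁻¹ * g with hy
    have hyR : (y : H) ∈ R := by
      rw [← QuotientGroup.eq_one_iff]
      show π₀ (s⁻¹ * (g : H)) = 1
      rw [map_mul, map_inv, hsg, inv_mul_cancel]
    have hyc : y ∈ Subgroup.centralizer (T : Set N₀) := by
      rw [Subgroup.mem_centralizer_iff]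
      intro x hx
      apply Subtype.ext
      have h1 : ⁅(y : H), (x : H)⁆ ∈ R ⊓ S₂ := by
        refine ⟨?_, ?_⟩
        · rw [commutatorElement_def, show (y : H) * x * (y : H)⁻¹ * (x : H)⁻¹ =
            y * (x * (y : H)⁻¹ * (x : H)⁻¹) by group]
          exact mul_mem hyR ((inferInstance : R.Normal).conj_mem _ (inv_mem hyR) _)
        · show _ ∈ S₂
          rw [commutatorElement_def]
          exact mul_mem (H28.TwoLength.conj_mem y.2 (show (x : H) ∈ S₂ from hx))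
            (inv_mem (show (x : H) ∈ S₂ from hx))
      have h2 : ⁅(y : H), (x : H)⁆ = 1 := by
        obtain ⟨l, hl⟩ := hS₂p ⟨_, h1.2⟩
        refine orderOf_eq_one_iff.mp (Nat.eq_one_of_dvd_coprimes
          (((H10.pPrimeCore_coprime (G := H) (p := 2)).coprime_dvd_left
            (Subgroup.orderOf_dvd_natCard R h1.1)).pow_right l) dvd_rfl
          (orderOf_dvd_of_pow_eq_one (congrArg Subtype.val hl)))
      exact (commutatorElement_eq_one_iff_commute.mp h2).eq.symm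
    rw [MonoidHom.mem_ker, show g = (⟨s, hsN⟩ : N₀) * y by rw [hy, mul_inv_cancel_left], map_mul,
      hρT _ (show (⟨s, hsN⟩ : N₀) ∈ T from hs), hρC y hyc, one_mul]
  have hle' : φ.ker ≤ ρ'.toHomUnits.ker := fun g hg => by
    rw [MonoidHom.mem_ker, Units.ext_iff]
    exact hle hg
  let σ := (Units.coeHom _).comp (MonoidHom.liftOfSurjective φ hφ ⟨ρ'.toHomUnits, hle'⟩)
  have hσ : ∀ g, σ (φ g) = ρ' g := fun g => by
    show Units.val (MonoidHom.liftOfSurjective φ hφ ⟨ρ'.toHomUnits, hle'⟩ (φ g)) = _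
    rw [show MonoidHom.liftOfSurjective φ hφ ⟨ρ'.toHomUnits, hle'⟩ (φ g) = ρ'.toHomUnits g from
      MonoidHom.liftOfRightInverse_comp_apply φ _ (Function.rightInverse_surjInv hφ)
        ⟨ρ'.toHomUnits, hle'⟩ g]
    rfl
  refine ⟨n, σ, ?_, fun x b hx => ?_⟩
  · rw [← MonoidHom.ker_eq_bot_iff, eq_bot_iff]
    rw [← H28.TwoLength.pCore_quotient_pPrimePCore (G := H)]
    refine H10.le_pCore inferInstance ?_
    rintro ⟨x, hx⟩
    obtain ⟨g, rfl⟩ := hφ x
    obtain ⟨c, o, ho, hord⟩ := Nat.exists_eq_two_pow_mul_odd (orderOf_pos g).ne'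
    refine ⟨c, Subtype.ext ?_⟩
    rw [SubmonoidClass.coe_pow, Subgroup.coe_one]
    show φ g ^ 2 ^ c = 1
    rw [← map_pow]
    refine (QuotientGroup.eq_one_iff _).mpr (hcentS ?_)
    have hg1 : ρ' (g ^ 2 ^ c) = 1 := by
      rw [map_pow, ← hσ, show σ (φ g) = 1 from hx, one_pow]
    have hodd : Odd (orderOf (g ^ 2 ^ c)) := ho.of_dvd_nat (orderOf_dvd_of_pow_eq_one (by
      rw [← pow_mul, ← hord, pow_orderOf_eq_one]))
    have hc := hρodd _ hg1 hodd
    rw [Subgroup.mem_centralizer_iff] at hc ⊢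
    exact fun s hs => congrArg Subtype.val (hc ⟨s, Subgroup.le_normalizer hs⟩ hs)
  · obtain ⟨y, c, rfl, hy⟩ := H28.TwoLength.exists_two_preimage φ hφ hx
    rw [hσ]
    exact hρdef y c hy

end H51.Bryu
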