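import Cfsg.Agent.H51.Bryu.LeafGroup
import Cfsg.Agent.H51.Bryu.Chain

/-!
The finest decomposition of a symplectic space invariant under the stabiliser, and its leaves.
-/

set_option autoImplicit false
set_option linter.style.haveILetI false
set_option linter.unusedSectionVars false

namespace H51.Bryu

open Module
open scoped commutatorElement

universe u v w

variable {r : ℕ} [Fact r.Prime] {K : Type v} [Field K]
variable {X : Type w} [AddCommGroup X] [Module (ZMod r) X]

/-- A common sign vector of a set of involutions. -/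
def IsEigVec (I : Subgroup (X ≃ₗ[ZMod r] X)) (x : X) : Prop := ∀ i ∈ I, i x = x ∨ i x = -x

/-- The piece of a sign vector. -/
def piece (I : Subgroup (X ≃ₗ[ZMod r] X)) (v : X) : Submodule (ZMod r) X where
  carrier := {x | ∀ i ∈ I, (i v = v → i x = x) ∧ (i v = -v → i x = -x)}
  zero_mem' := fun i _ => ⟨fun _ => map_zero i, fun _ => by rw [map_zero, neg_zero]⟩
  add_mem' := fun {x y} hx hy i hi =>
    ⟨fun h => by rw [map_add, (hx i hi).1 h, (hy i hi).1 h],
      fun h => by rw [map_add, (hx i hi).2 h, (hy i hi).2 h, neg_add]⟩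
  smul_mem' := fun c x hx i hi =>
    ⟨fun h => by rw [map_smul, (hx i hi).1 h], fun h => by rw [map_smul, (hx i hi).2 h, smul_neg]⟩

/-- The sum of the other pieces. -/
def coPiece (I : Subgroup (X ≃ₗ[ZMod r] X)) (v : X) : Submodule (ZMod r) X :=
  Submodule.span (ZMod r) {w | IsEigVec I w ∧ w ∉ piece I v}

theorem self_mem_piece (I : Subgroup (X ≃ₗ[ZMod r] X)) (v : X) : v ∈ piece I v :=
  fun _ _ => ⟨id, id⟩

theorem span_eigVec (hr2 : r ≠ 2) [Finite X] (I : Subgroup (X ≃ₗ[ZMod r] X))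
    (hI : ∀ i ∈ I, i * i = 1) (x : X) :
    x ∈ Submodule.span (ZMod r) {w | IsEigVec I w} := by
  classical
  haveI : Finite (X ≃ₗ[ZMod r] X) := Finite.of_injective _ DFunLike.coe_injective
  haveI : Fintype I := Fintype.ofFinite _
  suffices key : ∀ s : Finset I,
      x ∈ Submodule.span (ZMod r) {w | ∀ i ∈ s, (i : X ≃ₗ[ZMod r] X) w = w ∨
        (i : X ≃ₗ[ZMod r] X) w = -w} by
    refine Submodule.span_mono ?_ (key Finset.univ)
    intro w hw i hi
    exact hw ⟨i, hi⟩ (Finset.mem_univ _)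
  intro s
  induction s using Finset.induction with
  | empty => exact Submodule.subset_span fun i hi => absurd hi (Finset.notMem_empty i)
  | @insert i s his ih =>
    refine Submodule.span_le.mpr ?_ ih
    intro w hw
    set c : ZMod r := (2 : ZMod r)⁻¹
    have h2 : c * 2 = 1 := inv_mul_cancel₀ (H28.TwoLength.two_ne_zero' hr2)
    have hii : ∀ y, (i : X ≃ₗ[ZMod r] X) ((i : X ≃ₗ[ZMod r] X) y) = y := fun y => by
      rw [← LinearEquiv.mul_apply, hI i i.2]; rfl
    have hcm : ∀ (l : I) y, (i : X ≃ₗ[ZMod r] X) ((l : X ≃ₗ[ZMod r] X) y) =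
        (l : X ≃ₗ[ZMod r] X) ((i : X ≃ₗ[ZMod r] X) y) := fun l y => by
      have h3 : ∀ z ∈ I, z⁻¹ = z := fun z hz => inv_eq_of_mul_eq_one_right (hI z hz)
      rw [← LinearEquiv.mul_apply, ← LinearEquiv.mul_apply,
        ← h3 _ (mul_mem i.2 l.2), mul_inv_rev, h3 _ i.2, h3 _ l.2]
    have hw' : w = c • (w + (i : X ≃ₗ[ZMod r] X) w) + c • (w - (i : X ≃ₗ[ZMod r] X) w) := by
      rw [← smul_add, show w + (i : X ≃ₗ[ZMod r] X) w + (w - (i : X ≃ₗ[ZMod r] X) w) =
        (2 : ZMod r) • w by rw [two_smul]; abel, smul_smul, h2, one_smul]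
    rw [hw']
    refine Submodule.add_mem _ (Submodule.smul_mem _ _ (Submodule.subset_span fun l hl => ?_))
      (Submodule.smul_mem _ _ (Submodule.subset_span fun l hl => ?_))
    · rcases Finset.mem_insert.mp hl with rfl | hl
      · left; rw [map_add, hii, add_comm]
      · rcases hw l hl with h | h
        · left; rw [map_add, h, ← hcm, h]
        · right; rw [map_add, h, ← hcm, h, map_neg, neg_add]
    · rcases Finset.mem_insert.mp hl with rfl | hl
      · right; rw [map_sub, hii, neg_sub]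
      · rcases hw l hl with h | h
        · left; rw [map_sub, h, ← hcm, h]
        · right; rw [map_sub, h, ← hcm, h, map_neg, neg_sub, sub_neg_eq_add]; abel

section

variable (F : PairingForm r K X) (hr2 : r ≠ 2)
include hr2

theorem PairingForm.eq_one_of_sq {x y : X} (h : F.b x y * F.b x y = 1) : F.b x y = 1 := by
  obtain ⟨t, ht⟩ := (Fact.out : r.Prime).odd_of_ne_two hr2
  have h4 : F.b x y ^ (2 * t + 1) = 1 :=
    (congrArg (fun n => F.b x y ^ n) ht.symm).trans (F.pow_r x y)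
  rwa [pow_succ, pow_mul, sq, h, one_pow, one_mul] at h4

theorem PairingForm.orth_of_signs {i : X ≃ₗ[ZMod r] X} (hi : i ∈ F.iso) {x y : X}
    (hx : i x = x) (hy : i y = -y) : F.b x y = 1 := by
  refine F.eq_one_of_sq hr2 ?_
  have h1 := hi x y
  rw [hx, hy] at h1
  nth_rw 1 [← h1]
  rw [← F.add_right, neg_add_cancel, F.zero_right]

variable {F} {I : Subgroup (X ≃ₗ[ZMod r] X)}

theorem orth_piece (hI : I ≤ F.iso) {v w x y : X} (hv : IsEigVec I v) (hw : IsEigVec I w)
    (hwv : w ∉ piece I v) (hx : x ∈ piece I v) (hy : y ∈ piece I w) : F.b x y = 1 := by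
  by_contra hne
  apply hwv
  intro i hi
  refine ⟨fun h => ?_, fun h => ?_⟩
  · rcases hw i hi with h' | h'
    · exact h'
    · exact absurd (F.orth_of_signs hr2 (hI hi) ((hx i hi).1 h) ((hy i hi).2 h')) hne
  · rcases hw i hi with h' | h'
    · exact absurd (F.orth_symm (F.orth_of_signs hr2 (hI hi) ((hy i hi).1 h') ((hx i hi).2 h))) hne
    · exact h'

theorem orth_coPiece (hI : I ≤ F.iso) {v x y : X} (hv : IsEigVec I v) (hx : x ∈ piece I v)
    (hy : y ∈ coPiece I v) : F.b x y = 1 := by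
  induction hy using Submodule.span_induction with
  | mem w hw => exact orth_piece hr2 hI hv hw.1 hw.2 hx (self_mem_piece I w)
  | zero => exact F.zero_right x
  | add y z _ _ h1 h2 => rw [F.add_right, h1, h2, one_mul]
  | smul c y _ h1 => rw [F.smul_right, h1, one_pow]

variable [Finite X]

theorem piece_sup (hI2 : ∀ i ∈ I, i * i = 1) (v x : X) : x ∈ piece I v ⊔ coPiece I v := by
  refine Submodule.span_le.mpr ?_ (span_eigVec hr2 I hI2 x)
  intro w hw
  by_cases h : w ∈ piece I v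
  · exact Submodule.mem_sup_left h
  · exact Submodule.mem_sup_right (Submodule.subset_span ⟨hw, h⟩)

theorem piece_isCompl (hI : I ≤ F.iso) (hI2 : ∀ i ∈ I, i * i = 1) {v : X} (hv : IsEigVec I v) :
    IsCompl (piece I v) (coPiece I v) := by
  refine ⟨?_, ?_⟩
  · rw [Submodule.disjoint_def]
    intro x hx hx'
    refine F.nondeg x fun y => ?_
    obtain ⟨y₁, hy₁, y₂, hy₂, rfl⟩ := Submodule.mem_sup.mp (piece_sup hr2 hI2 v y)
    rw [F.add_right, orth_coPiece hr2 hI hv hx hy₂,
      F.orth_symm (orth_coPiece hr2 hI hv hy₁ hx'), one_mul]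
  · rw [codisjoint_iff, Submodule.eq_top_iff']
    exact piece_sup hr2 hI2 v

theorem mem_coPiece_of_orth (hI : I ≤ F.iso) (hI2 : ∀ i ∈ I, i * i = 1) {v x : X}
    (hv : IsEigVec I v) (hx : ∀ y ∈ piece I v, F.b y x = 1) : x ∈ coPiece I v := by
  obtain ⟨x₁, hx₁, x₂, hx₂, rfl⟩ := Submodule.mem_sup.mp (piece_sup hr2 hI2 v x)
  have h0 : x₁ = 0 := by
    refine F.nondeg x₁ fun y => ?_
    obtain ⟨y₁, hy₁, y₂, hy₂, rfl⟩ := Submodule.mem_sup.mp (piece_sup hr2 hI2 v y)
    have h1 := hx y₁ hy₁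
    rw [F.add_right, orth_coPiece hr2 hI hv hy₁ hx₂, mul_one] at h1
    rw [F.add_right, orth_coPiece hr2 hI hv hx₁ hy₂, mul_one]
    exact F.orth_symm h1
  rwa [h0, zero_add]

/-- An operator normalising the involutions permutes the pieces. -/
theorem piece_cases (hI : I ≤ F.iso) {g : X ≃ₗ[ZMod r] X}
    (hgI : ∀ i ∈ I, g⁻¹ * i * g ∈ I) {v : X} (hv : IsEigVec I v) (hv0 : v ≠ 0) :
    (∀ x ∈ piece I v, g x ∈ piece I v) ∨
      ∀ x ∈ piece I v, ∀ y ∈ piece I v, F.b y (g x) = 1 := by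
  have hgi : ∀ i x, g ((g⁻¹ * i * g) x) = i (g x) := fun i x => g.apply_symm_apply _
  have hgv : IsEigVec I (g v) := fun i hi => by
    rw [← hgi]
    rcases hv _ (hgI i hi) with h | h <;> rw [h]
    · exact Or.inl rfl
    · exact Or.inr (map_neg g v)
  have hmap : ∀ x ∈ piece I v, g x ∈ piece I (g v) := fun x hx i hi => by
    refine ⟨fun h => ?_, fun h => ?_⟩
    · rw [← hgi] at h ⊢
      rw [(hx _ (hgI i hi)).1 (g.injective h)]
    · rw [← hgi, ← map_neg] at h ⊢
      rw [(hx _ (hgI i hi)).2 (g.injective h)]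
  by_cases hmem : g v ∈ piece I v
  · left
    intro x hx i hi
    refine ⟨fun h => (hmap x hx i hi).1 ((hmem i hi).1 h),
      fun h => (hmap x hx i hi).2 ((hmem i hi).2 h)⟩
  · exact Or.inr fun x hx y hy => orth_piece hr2 hI hv hgv hmem hy (hmap x hx)

omit hr2 in
/-- The pairing on a piece. -/
def pieceForm (hr2 : r ≠ 2) (hI : I ≤ F.iso) (hI2 : ∀ i ∈ I, i * i = 1) {v : X}
    (hv : IsEigVec I v) : PairingForm r K (piece I v) where
  b x y := F.b x y
  add_left _ _ _ := F.add_left _ _ _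
  add_right _ _ _ := F.add_right _ _ _
  self _ := F.self _
  ne_zero _ _ := F.ne_zero _ _
  nondeg x hx := Subtype.ext <| F.nondeg x fun y => by
    obtain ⟨y₁, hy₁, y₂, hy₂, rfl⟩ := Submodule.mem_sup.mp (piece_sup hr2 hI2 v y)
    rw [F.add_right, orth_coPiece hr2 hI hv x.2 hy₂, mul_one]
    exact hx ⟨y₁, hy₁⟩

/-- A pure element stabilises the pieces which its involution moves. -/
theorem pure_stab (hI : I ≤ F.iso) (hI2 : ∀ i ∈ I, i * i = 1) {k : ℕ} {a : X ≃ₗ[ZMod r] X}
    (h : Pure F k a) (ha : ∀ i ∈ I, a⁻¹ * i * a ∈ I) {v : X} (hv : IsEigVec I v) (hv0 : v ≠ 0)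
    {y₀ : X} (hy₀ : y₀ ∈ piece I v) (hne : (a ^ 2 ^ (k - 1)) y₀ ≠ y₀) :
    ∀ x ∈ piece I v, a x ∈ piece I v := by
  rcases piece_cases hr2 hI ha hv hv0 with h1 | h1
  · exact h1
  exfalso
  set Y := piece I v
  have hY0 : ∀ x ∈ Y, a x ∈ Y → x = 0 := fun x hx hax => by
    refine a.map_eq_zero_iff.mp (F.nondeg (a x) fun y => ?_)
    obtain ⟨y₁, hy₁, y₂, hy₂, rfl⟩ := Submodule.mem_sup.mp (piece_sup hr2 hI2 v y)
    rw [F.add_right, F.orth_symm (h1 x hx y₁ hy₁), orth_coPiece hr2 hI hv hax hy₂, one_mul]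
  let φ : Y →ₗ[ZMod r] plane k a :=
    { toFun := fun w => ⟨a w - w, h.sub_mem _⟩
      map_add' := fun v w => Subtype.ext (by
        show a ((v : X) + w) - ((v : X) + w) = (a v - v) + (a w - w)
        rw [map_add]; abel)
      map_smul' := fun c w => Subtype.ext (by
        show a (c • (w : X)) - c • (w : X) = c • (a w - w)
        rw [map_smul, smul_sub]) }
  have hinj : Function.Injective φ := by
    rw [← LinearMap.ker_eq_bot, Submodule.eq_bot_iff]
    intro w hw
    rw [LinearMap.mem_ker] at hw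
    have h2 : a (w : X) = w := sub_eq_zero.mp (congrArg Subtype.val hw)
    exact Subtype.ext (hY0 w w.2 (h2.symm ▸ w.2))
  haveI : FiniteDimensional (ZMod r) Y := Module.Finite.of_finite
  haveI := h.finite
  obtain ⟨w, hw, hvw⟩ : ∃ w ∈ Y, F.b v w ≠ 1 := by
    by_contra hcon
    push Not at hcon
    exact hv0 (congrArg Subtype.val ((pieceForm hr2 hI hI2 hv).nondeg ⟨v, self_mem_piece I v⟩
      fun y => hcon y y.2))
  have hli : LinearIndependent (ZMod r) ![(⟨v, self_mem_piece I v⟩ : Y), ⟨w, hw⟩] := by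
    refine (LinearIndependent.pair_iff' fun h0 => hv0 (congrArg Subtype.val h0)).mpr fun c hc => ?_
    apply hvw
    rw [show w = c • v from (congrArg Subtype.val hc).symm, F.smul_right, F.self, one_pow]
  have h2le : 2 ≤ finrank (ZMod r) Y := by simpa using hli.fintype_card_le_finrank
  have hle2 := LinearMap.finrank_le_finrank_of_injective hinj
  rw [h.rank] at hle2
  have hsurj : Function.Surjective φ :=
    (LinearMap.injective_iff_surjective_of_finrank_eq_finrank (by rw [h.rank]; omega)).mp hinj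
  have ha2 : ∀ i ∈ I, (a * a)⁻¹ * i * (a * a) ∈ I := fun i hi => by
    rw [show (a * a)⁻¹ * i * (a * a) = a⁻¹ * (a⁻¹ * i * a) * a by group]
    exact ha _ (ha i hi)
  have key : ∀ y ∈ Y, ∃ y' ∈ Y, a (a y) - a y = a y' - y' := fun y hy => by
    obtain ⟨⟨y', hy'⟩, hφ⟩ := hsurj ⟨a (a y - y), h.apply_mem (h.sub_mem y)⟩
    exact ⟨y', hy', by rw [← map_sub]; exact (congrArg Subtype.val hφ).symm⟩
  rcases piece_cases hr2 hI ha2 hv hv0 with h2 | h2
  · refine hne ?_
    obtain ⟨y', hy', he⟩ := key y₀ hy₀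
    have h3 : a (y₀ + y') = a (a y₀) + y' := by
      rw [map_add, ← sub_eq_zero]
      rw [← sub_eq_zero] at he
      rw [← he.trans neg_zero.symm |> congrArg Neg.neg |>.trans (neg_neg (0 : X))]
      abel
    have h4 : y₀ + y' = 0 := hY0 _ (Submodule.add_mem _ hy₀ hy')
      (h3 ▸ Submodule.add_mem _ (h2 y₀ hy₀) hy')
    rw [h4, map_zero] at h3
    have h5 : (a ^ 2) y₀ = y₀ := by
      rw [sq, LinearEquiv.mul_apply]
      exact (add_eq_zero_iff_eq_neg.mp h3.symm).trans (neg_eq_of_add_eq_zero_left h4)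
    rw [show 2 ^ (k - 1) = 2 * 2 ^ (k - 2) by
      rw [← pow_succ', show k - 2 + 1 = k - 1 by have := h.two_le; omega], pow_mul]
    exact pow_fix h5 _
  · apply hv0
    obtain ⟨y', hy', he⟩ := key v (self_mem_piece I v)
    have h0 : (⟨y', hy'⟩ : Y) = 0 := (pieceForm hr2 hI hI2 hv).nondeg _ fun q => by
      refine F.orth_symm ?_
      have e : y' = a (v + y') + -(a (a v)) := by
        rw [map_add, ← sub_eq_zero] at *
        rw [← he]; abel
      show F.b (q : X) y' = 1
      rw [e, F.add_right, h1 _ (Submodule.add_mem _ (self_mem_piece I v) hy') q q.2, one_mul,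
        ← map_neg, ← map_neg]
      exact h2 _ (Submodule.neg_mem _ (self_mem_piece I v)) q q.2
    rw [show y' = 0 from congrArg Subtype.val h0, map_zero, sub_zero, sub_eq_zero] at he
    exact hY0 v (self_mem_piece I v) ((a.injective he).symm ▸ self_mem_piece I v)

end

end H51.Bryu
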