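import Cfsg.Agent.H51.Bryu.Linear
import Mathlib.LinearAlgebra.FiniteDimensional.Basic

/-!
Isometries of a single plane: the quadratic equation, the bound on the order, commutation.
-/

set_option autoImplicit false
set_option linter.style.haveILetI false
set_option linter.unusedSectionVars false

namespace H51.Bryu

open Module
open scoped commutatorElement

universe u v w

variable {r : ℕ} [Fact r.Prime] {K : Type v} [Field K]
variable {X : Type w} [AddCommGroup X] [Module (ZMod r) X]
variable {F : PairingForm r K X} {k : ℕ} {a : X ≃ₗ[ZMod r] X}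

/-- An isometry of a plane satisfies `g² - t g + 1 = 0`. -/
theorem Pure.quad (h : Pure F k a) {g : X ≃ₗ[ZMod r] X} (hg : g ∈ F.iso)
    (hgP : ∀ x ∈ plane k a, g x ∈ plane k a) :
    ∃ t : ZMod r, ∀ x ∈ plane k a, g (g x) = t • g x - x := by
  haveI := h.finite
  let B := Module.finBasisOfFinrankEq (ZMod r) (plane k a) h.rank
  set v : X := (B 0 : X)
  set w : X := (B 1 : X)
  have hv : v ∈ plane k a := (B 0).2
  have hw : w ∈ plane k a := (B 1).2
  have hrep : ∀ x ∈ plane k a, ∃ c d : ZMod r, x = c • v + d • w := fun x hx => by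
    refine ⟨B.repr ⟨x, hx⟩ 0, B.repr ⟨x, hx⟩ 1, ?_⟩
    have := congrArg Subtype.val (B.sum_repr ⟨x, hx⟩)
    rw [Fin.sum_univ_two] at this
    exact this.symm
  have hv0 : v ≠ 0 := fun h0 => B.ne_zero 0 (Subtype.ext h0)
  have hvw : F.b v w ≠ 1 := fun h1 => hv0 (h.nondeg_plane hv fun q hq => by
    obtain ⟨c, d, rfl⟩ := hrep q hq
    rw [F.add_right, F.smul_right, F.smul_right, F.self, h1, one_pow, one_pow, one_mul])
  obtain ⟨α, β, hgv⟩ := hrep _ (hgP v hv)
  obtain ⟨γ, δ, hgw⟩ := hrep _ (hgP w hw)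
  have hdet : α * δ - β * γ = 1 := by
    have h1 := hg v w
    rw [hgv, hgw, F.add_left, F.add_right, F.add_right, F.smul_left, F.smul_left, F.smul_left,
      F.smul_left, F.smul_right, F.smul_right, F.smul_right, F.smul_right, F.self, F.self] at h1
    simp only [one_pow, one_mul, mul_one, ← pow_mul] at h1
    have hwv : F.b w v = F.b v w ^ (r - 1) := by
      have h2 := F.pow_r v w
      have h2' : F.b v w ^ (r - 1) * F.b v w = 1 := by
        rw [← pow_succ, Nat.sub_add_cancel (Fact.out : r.Prime).one_le]; exact h2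
      exact mul_right_cancel₀ (F.ne_zero v w)
        ((mul_comm _ _).trans ((F.swap v w).trans h2'.symm))
    rw [hwv, ← pow_mul, ← pow_add] at h1
    have hord : orderOf (F.b v w) = r :=
      orderOf_eq_prime (F.pow_r v w) hvw
    have h3 : F.b v w ^ (δ.val * α.val + (r - 1) * (γ.val * β.val)) = F.b v w ^ 1 := by
      rw [pow_one]; exact h1
    have h4 := (isOfFinOrder_iff_pow_eq_one.mpr
      ⟨r, (Fact.out : r.Prime).pos, F.pow_r v w⟩).pow_eq_pow_iff_modEq.mp h3
    rw [hord, ← ZMod.natCast_eq_natCast_iff] at h4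
    push_cast [Nat.cast_sub (Fact.out : r.Prime).one_le] at h4
    simp only [ZMod.natCast_zmod_val, ZMod.natCast_self, zero_sub] at h4
    rw [← h4]; ring
  refine ⟨α + δ, fun x hx => ?_⟩
  obtain ⟨c, d, rfl⟩ := hrep x hx
  simp only [map_add, map_smul, hgv, hgw]
  match_scalars
  · linear_combination -(c : ZMod r) * hdet
  · linear_combination -(d : ZMod r) * hdet

/-- Elements with the same quadratic equation commuting with `a` are `a` or `a⁻¹` on the plane. -/
theorem Pure.commutant (h : Pure F k a) {u : X ≃ₗ[ZMod r] X}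
    (hu : ∀ x ∈ plane k a, u x ∈ plane k a) (hua : Commute u a) {t : ZMod r}
    (hat : ∀ x ∈ plane k a, a (a x) = t • a x - x)
    (hut : ∀ x ∈ plane k a, u (u x) = t • u x - x) :
    (∀ x ∈ plane k a, u x = a x) ∨ ∀ x ∈ plane k a, a (u x) = x := by
  set Y : Submodule (ZMod r) X :=
    plane k a ⊓ LinearMap.ker (u.toLinearMap - a.toLinearMap) with hYdef
  have hmem : ∀ {x}, x ∈ Y ↔ x ∈ plane k a ∧ u x = a x := fun {x} => by
    rw [hYdef, Submodule.mem_inf, LinearMap.mem_ker, LinearMap.sub_apply, sub_eq_zero]; rfl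
  have hcomm : ∀ x, u (a x) = a (u x) := fun x => by
    rw [← LinearEquiv.mul_apply, hua.eq, LinearEquiv.mul_apply]
  by_cases hY : Y = ⊥
  · right
    intro x hx
    have hy : a (u x) - x ∈ Y := by
      refine hmem.mpr ⟨Submodule.sub_mem _ (h.apply_mem (hu x hx)) hx, ?_⟩
      rw [map_sub, map_sub, hcomm, hut x hx, hat _ (hu x hx), map_sub, map_smul]
      abel
    rw [hY, Submodule.mem_bot, sub_eq_zero] at hy
    exact hy
  · left
    intro x hx
    have heq := h.eq_of_invariant (Y := Y) inf_le_left (fun y hy => hmem.mpr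
      ⟨h.apply_mem (hmem.mp hy).1, by rw [hcomm, (hmem.mp hy).2]⟩) hY
    exact (hmem.mp (heq.symm ▸ hx : x ∈ Y)).2

/-- An element inverting a noncentral `a` on the plane squares to `-1` there. -/
theorem Pure.sq_eq_neg (h : Pure F k a) {g : X ≃ₗ[ZMod r] X} (hg : g ∈ F.iso)
    (hgP : ∀ x ∈ plane k a, g x ∈ plane k a)
    (hinv : ∀ x ∈ plane k a, a (g (a x)) = g x) {v : X} (hv : v ∈ plane k a)
    (hne : g (a v) ≠ a (g v)) : ∀ x ∈ plane k a, g (g x) = -x := by
  obtain ⟨t, ht⟩ := h.quad hg hgP
  suffices t = 0 by intro x hx; rw [ht x hx, this, zero_smul, zero_sub]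
  by_contra ht0
  apply hne
  have h1 : g (g (a v)) = a (g (g v)) := by
    refine sub_eq_zero.mp ?_
    have e1 := hinv v hv
    have e2 := hinv (g (a v)) (hgP _ (h.apply_mem hv))
    rw [e1] at e2
    exact sub_eq_zero.mpr e2.symm
  rw [ht _ (h.apply_mem hv), ht v hv, map_sub, map_smul, sub_left_inj] at h1
  exact smul_right_injective X ht0 h1

/-- In a `2`-group conjugates of a pure element of level at least three commute. -/
theorem commute_conj [Finite X] (hk : 3 ≤ k) : ∀ (S : Subgroup (X ≃ₗ[ZMod r] X)), IsPGroup 2 S →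
    S ≤ F.iso → ∀ a ∈ S, Pure F k a → ∀ g ∈ S, Commute a (g * a * g⁻¹) := by
  haveI : Finite (X ≃ₗ[ZMod r] X) := Finite.of_injective _ DFunLike.coe_injective
  intro S
  induction S using WellFoundedLT.induction with
  | _ S ih =>
    intro hS hSi a ha hpa g hg
    rcases eq_or_lt_of_le (conjClosure_le ha : conjClosure S a ≤ S) with hM | hM
    · obtain ⟨i, rfl⟩ := Subgroup.mem_zpowers_iff.mp (eq_zpowers_of_conjClosure hS ha hM hg)
      rw [show a ^ i * a * (a ^ i)⁻¹ = a by group]
    set M := conjClosure S a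
    set a' := g * a * g⁻¹ with ha'
    obtain ⟨hpa', hpl⟩ := hpa.conj (hSi hg)
    rcases plane_cases S hS hSi a ha hpa g hg with hgP | hfix
    swap
    · exact (hpa'.commute_of_fixes hpa hfix).symm
    rw [hgP] at hpl
    have haM : a ∈ M := by
      simpa using (conj_mem_conjClosure (S := S) (a := a) (one_mem S))
    have ha'M : a' ∈ M := conj_mem_conjClosure hg
    set u := a' * a * a'⁻¹ with hu
    have hcu : Commute u a :=
      (ih M hM (hS.to_le hM.le) (hM.le.trans hSi) a haM hpa a' ha'M).symm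
    have ha'P : ∀ x ∈ plane k a, a' x ∈ plane k a := fun x hx => by
      rw [← hpl] at hx ⊢; exact hpa'.apply_mem hx
    have hcu' : ∀ x, u (a' x) = a' (a x) := fun x => by
      rw [← LinearEquiv.mul_apply, hu, inv_mul_cancel_right, LinearEquiv.mul_apply]
    obtain ⟨t, ht⟩ := hpa.quad hpa.iso (fun x => hpa.apply_mem)
    haveI := hpa.finite
    have hsurj : ∀ x ∈ plane k a, ∃ y ∈ plane k a, a' y = x := fun x hx => by
      have hinj : Function.Injective ((a' : X →ₗ[ZMod r] X).restrict ha'P) := fun y z hyz =>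
        Subtype.ext (a'.injective (congrArg Subtype.val hyz))
      obtain ⟨y, hy⟩ := LinearMap.injective_iff_surjective.mp hinj ⟨x, hx⟩
      exact ⟨y, y.2, congrArg Subtype.val hy⟩
    have huP : ∀ x ∈ plane k a, u x ∈ plane k a := fun x hx => by
      obtain ⟨y, hy, rfl⟩ := hsurj x hx
      rw [hcu']; exact ha'P _ (hpa.apply_mem hy)
    have hut : ∀ x ∈ plane k a, u (u x) = t • u x - x := fun x hx => by
      obtain ⟨y, hy, rfl⟩ := hsurj x hx
      rw [hcu', hcu', ht y hy, map_sub, map_smul]
    have key : ∀ x ∈ plane k a, a' (a x) = a (a' x) := by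
      rcases hpa.commutant huP hcu ht hut with h1 | h1
      · intro x hx
        rw [← hcu', h1 _ (ha'P x hx)]
      · intro x hx
        by_contra hne
        have hinv : ∀ y ∈ plane k a, a (a' (a y)) = a' y := fun y hy => by
          rw [← hcu', h1 _ (ha'P y hy)]
        have hsq := hpa.sq_eq_neg hpa'.iso ha'P hinv hx hne
        have hp2 : ∀ y ∈ plane k a, (a' ^ 2 ^ 2) y = y := fun y hy => by
          show (a' ^ 4) y = y
          simp only [pow_succ, pow_zero, one_mul, LinearEquiv.mul_apply]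
          rw [hsq _ (ha'P _ (ha'P y hy)), hsq y hy, neg_neg]
        have hx' := mem_plane.mp (hpl.symm ▸ hx : x ∈ plane k a')
        rw [show 2 ^ (k - 1) = 2 ^ 2 * 2 ^ (k - 3) by rw [← pow_add]; congr 1; omega, pow_mul,
          pow_fix (hp2 x hx)] at hx'
        have hx0 := eq_self_of_eq_neg hpa.odd_r hx'
        exact hne (by rw [hx0, map_zero, map_zero, map_zero])
    refine LinearEquiv.ext fun x => ?_
    obtain ⟨p, hp, q, hq, rfl⟩ := hpa.split x
    show a (a' (p + q)) = a' (a (p + q))
    have hq' : a' q = q := hpa'.fix_of_orth fun p' hp' => hpa.orth (hpl ▸ hp') hq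
    simp only [map_add, hq, hq', key p hp]

/-- The level of an element inverting a plane is at most the Mersenne exponent. -/
theorem Pure.level_le (h : Pure F k a) {c : X ≃ₗ[ZMod r] X} (hc : c ∈ F.iso)
    (hcP : ∀ x ∈ plane k a, c x ∈ plane k a) {f : ℕ} (hf : 2 ≤ f) {v : X} (hv : v ∈ plane k a)
    (hv0 : v ≠ 0) (hneg : ∀ x ∈ plane k a, (c ^ 2 ^ (f - 1)) x = -x) : f ≤ k := by
  haveI := h.finite
  obtain ⟨t, ht⟩ := h.quad hc hcP
  set C : Module.End (ZMod r) (plane k a) := (c : X →ₗ[ZMod r] X).restrict hcP with hC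
  have hC2 : C ^ 2 - t • C + 1 = 0 := by
    refine LinearMap.ext fun x => Subtype.ext ?_
    show c (c (x : X)) - t • c (x : X) + (x : X) = 0
    rw [ht x x.2]; abel
  have hCn : ∀ n : ℕ, ∀ x : plane k a, ((C ^ n) x : X) = (c ^ n) (x : X) := by
    intro n
    induction n with
    | zero => intro x; rfl
    | succ n ih => intro x; rw [pow_succ, pow_succ, Module.End.mul_apply, ih]; rfl
  have hD2 : (C ^ r) ^ 2 - t • C ^ r + 1 = 0 := by
    have e : Polynomial.aeval C
        ((Polynomial.X ^ 2 - Polynomial.C t * Polynomial.X + 1 : Polynomial (ZMod r)) ^ r) = 0 := by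
      rw [map_pow]
      simp only [map_add, map_sub, map_pow, Polynomial.aeval_X, map_mul, Polynomial.aeval_C, map_one,
        ← Algebra.smul_def]
      rw [hC2, zero_pow (Fact.out : r.Prime).ne_zero]
    rw [← ZMod.expand_card, Polynomial.expand_aeval] at e
    simpa [map_add, map_sub, map_mul, Algebra.smul_def] using e
  have hfact : (C ^ r - C) * (C ^ r + C - t • 1) = 0 := by
    have hcm : C ^ r * C = C * C ^ r := (Commute.refl C).pow_left r
    have e : (C ^ r - C) * (C ^ r + C - t • 1) =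
        ((C ^ r) ^ 2 - t • C ^ r + 1) - (C ^ 2 - t • C + 1) := by
      simp only [mul_sub, mul_add, sub_mul, mul_smul_comm, mul_one, sq, hcm, smul_sub]
      abel
    rw [e, hD2, hC2, sub_zero]
  have hcr : ∀ x : plane k a, C (C x) = t • C x - x := fun x => Subtype.ext (ht x x.2)
  have hneg' : ∀ y : plane k a, (C ^ 2 ^ (f - 1)) y = -y := fun y =>
    Subtype.ext (by rw [hCn]; exact hneg y y.2)
  have hinjC : Function.Injective C := fun x y hxy =>
    Subtype.ext (c.injective (congrArg Subtype.val hxy))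
  have hcom : ∀ x, (C ^ r) (C x) = C ((C ^ r) x) := fun x => by
    rw [← Module.End.mul_apply, ← pow_succ, pow_succ', Module.End.mul_apply]
  have heig : ∀ (x : plane k a) (l : ZMod r), x ≠ 0 → C x ≠ l • x := by
    intro x l hx0 he
    have hl : ∀ n : ℕ, (C ^ n) x = l ^ n • x := fun n => by
      induction n with
      | zero => simp
      | succ n ih => rw [pow_succ', Module.End.mul_apply, ih, map_smul, he, smul_smul, pow_succ]
    refine H28.TwoLength.neg_one_no_sqrt h.two_le h.mer (l ^ 2 ^ (f - 2))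
      (smul_left_injective (ZMod r) hx0 ?_)
    show (l ^ 2 ^ (f - 2) * l ^ 2 ^ (f - 2)) • x = (-1 : ZMod r) • x
    rw [← pow_add, ← hl, ← two_mul, ← pow_succ', show f - 2 + 1 = f - 1 by omega, hneg',
      neg_one_smul]
  set L : Submodule (ZMod r) (plane k a) := LinearMap.ker (C ^ r - C) with hL
  by_cases hker : L = ⊥
  · have hinj := LinearMap.ker_eq_bot.mp hker
    have h1 : C ^ (r + 1) = 1 := by
      refine LinearMap.ext fun x => hinj ?_
      have e : (C ^ r + C - t • 1) (C x) = (C ^ (r + 1)) x - x := by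
        rw [LinearMap.sub_apply, LinearMap.add_apply, LinearMap.smul_apply, Module.End.one_apply,
          hcr, pow_succ, Module.End.mul_apply]
        abel
      have h2 := LinearMap.congr_fun hfact (C x)
      rw [Module.End.mul_apply, e, map_sub, LinearMap.zero_apply, sub_eq_zero] at h2
      rw [Module.End.one_apply]; exact h2
    by_contra hlt
    push Not at hlt
    refine hv0 (eq_self_of_eq_neg h.odd_r ?_)
    rw [← hneg v hv, show 2 ^ (f - 1) = 2 ^ k * 2 ^ (f - 1 - k) by rw [← pow_add]; congr 1; omega,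
      pow_mul]
    refine (pow_fix ?_ _).symm
    rw [← h.mer, ← hCn (r + 1) ⟨v, hv⟩, h1]; rfl
  · exfalso
    obtain ⟨x, hx, hx0⟩ := (Submodule.ne_bot_iff L).mp hker
    have hall : L = ⊤ := by
      have hli : LinearIndependent (ZMod r) ![x, C x] :=
        (LinearIndependent.pair_iff' hx0).mpr fun l => (heig x l hx0).symm
      rw [eq_top_iff, ← hli.span_eq_top_of_card_eq_finrank (by rw [h.rank, Fintype.card_fin]),
        Submodule.span_le]
      rintro _ ⟨i, rfl⟩
      fin_cases i
      · exact hx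
      · show C x ∈ L
        rw [hL, LinearMap.mem_ker, LinearMap.sub_apply, sub_eq_zero] at hx ⊢
        rw [hcom, hx]
    have hr1 : C ^ (r - 1) = 1 := by
      refine LinearMap.ext fun y => hinjC ?_
      have hy : y ∈ L := hall ▸ Submodule.mem_top
      rw [hL, LinearMap.mem_ker, LinearMap.sub_apply, sub_eq_zero] at hy
      rw [Module.End.one_apply, ← hy, ← Module.End.mul_apply, ← pow_succ',
        show r - 1 + 1 = r by have := (Fact.out : r.Prime).two_le; omega]
    have h2f : C ^ 2 ^ f = 1 := by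
      refine LinearMap.ext fun y => ?_
      rw [show 2 ^ f = 2 ^ (f - 1) + 2 ^ (f - 1) by
        rw [← two_mul, ← pow_succ', show f - 1 + 1 = f by omega], pow_add, Module.End.mul_apply,
        hneg', hneg', neg_neg, Module.End.one_apply]
    obtain ⟨k', hk'⟩ : ∃ k', k = k' + 2 := ⟨k - 2, by have := h.two_le; omega⟩
    have hgcd : Nat.gcd (r - 1) (2 ^ f) ∣ 2 := by
      obtain ⟨i, -, hi⟩ := (Nat.dvd_prime_pow Nat.prime_two).mp (Nat.gcd_dvd_right (r - 1) (2 ^ f))
      rw [hi]
      rcases Nat.lt_or_ge i 2 with h2 | h2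
      · exact (pow_dvd_pow 2 (by omega : i ≤ 1)).trans (by norm_num)
      · have h4 : 4 ∣ r - 1 :=
          (show 4 ∣ 2 ^ i from pow_dvd_pow 2 h2).trans (hi ▸ Nat.gcd_dvd_left (r - 1) (2 ^ f))
        have hm := h.mer
        rw [hk', pow_add] at hm
        have := (Fact.out : r.Prime).two_le
        omega
    have h21 : C ^ 2 = 1 := orderOf_dvd_iff_pow_eq_one.mp
      ((Nat.dvd_gcd (orderOf_dvd_of_pow_eq_one hr1) (orderOf_dvd_of_pow_eq_one h2f)).trans hgcd)
    refine hv0 (eq_self_of_eq_neg h.odd_r ?_)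
    rw [← hneg v hv, show 2 ^ (f - 1) = 2 * 2 ^ (f - 2) by
      rw [← pow_succ', show f - 2 + 1 = f - 1 by omega], pow_mul]
    refine (pow_fix ?_ _).symm
    rw [← hCn 2 ⟨v, hv⟩, h21]; rfl

theorem zmod3_facts : (∀ u : ZMod 3, u ≠ 0 → u * u = 1) ∧ (3 : ZMod 3) = 0 ∧ (2 : ZMod 3) ≠ 0 := by
  decide

/-- For level two, a `2`-element moving `a` inside the plane squares to `-1` there. -/
theorem Pure.sq_neg_two (h : Pure F 2 a) {g : X ≃ₗ[ZMod r] X} (hg : g ∈ F.iso)
    (hgP : ∀ x ∈ plane 2 a, g x ∈ plane 2 a) {n : ℕ} (hn : g ^ 2 ^ n = 1)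
    {v : X} (hv : v ∈ plane 2 a) (hne : g (a v) ≠ a (g v)) :
    ∀ x ∈ plane 2 a, g (g x) = -x := by
  obtain ⟨t, ht⟩ := h.quad hg hgP
  suffices t = 0 by intro x hx; rw [ht x hx, this, zero_smul, zero_sub]
  by_contra ht0
  have hr3 : r = 3 := by have := h.mer; omega
  subst hr3
  -- with `g = t (1 + e)`: `e² = 0` and `g ^ n` is linear in `n`
  obtain ⟨s, rfl⟩ : ∃ s, t = -s := ⟨-t, (neg_neg t).symm⟩
  have ht2 : s * s = 1 :=
    zmod3_facts.1 s (fun h0 => ht0 (by rw [h0, neg_zero]))
  have h30 : (3 : ZMod 3) = 0 := zmod3_facts.2.1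
  have hkey : ∀ m : ℕ, ∀ x ∈ plane 2 a,
      (g ^ m) x = s ^ m • (x + (m : ZMod 3) • (s • g x - x)) := by
    intro m
    induction m with
    | zero => intro x _; simp
    | succ m ih =>
      intro x hx
      rw [pow_succ', LinearEquiv.mul_apply, ih x hx, map_smul, map_add, map_smul, map_sub, map_smul,
        ht x hx, Nat.cast_succ, pow_succ]
      match_scalars
      · linear_combination -(s ^ m * (2 * (m : ZMod 3) + 1)) * ht2 - ((m : ZMod 3) * s ^ m) * h30
      · ring
  have h1 := hkey (2 ^ n) v hv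
  have h2 := hkey (2 ^ n) (a v) (h.apply_mem hv)
  rw [hn] at h1 h2
  have hm : ((2 ^ n : ℕ) : ZMod 3) ≠ 0 := by
    push_cast
    exact pow_ne_zero _ zmod3_facts.2.2
  by_cases hs1 : s ^ 2 ^ n = 1
  · simp only [LinearEquiv.coe_one, id_eq, hs1, one_smul, left_eq_add, smul_eq_zero, hm, false_or,
      sub_eq_zero] at h1 h2
    apply hne
    have hs' : s ≠ 0 := fun h0 => ht0 (by rw [h0, neg_zero])
    apply smul_right_injective X hs'
    show s • g (a v) = s • a (g v)
    rw [h2, ← map_smul, h1]
  · exact hs1 (by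
      have hss : s * s = 1 := ht2
      rcases n with _ | n
      · exact absurd (LinearEquiv.congr_fun hn v) (fun h0 => hne (by
          rw [pow_zero, pow_one] at h0
          have hgv : g v = v := h0
          have hga : g (a v) = a v := by
            have := LinearEquiv.congr_fun hn (a v); rwa [pow_zero, pow_one] at this
          rw [hga, hgv]))
      · rw [pow_succ', pow_mul, sq, hss, one_pow])

end H51.Bryu
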