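import Cfsg.Agent.H51.Bryu.Leaves
import Cfsg.Agent.H28.TwoLength.Centralize

/-!
The leaves of one system of eigenvalues on the centre of a critical subgroup.
-/

set_option autoImplicit false
set_option linter.style.haveILetI false
set_option linter.unusedSectionVars false

namespace H51.Bryu

open Module H28.SG
open H28.TwoLength (conj_mem mem_norm exists_plane exists_section tau_fix odd_card)
open scoped commutatorElement

universe u v w

variable {H : Type u} [Group H] [Finite H]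
variable {K : Type v} [Field K] [CharP K 2] [IsAlgClosed K]
variable {W : Type w} [AddCommGroup W] [Module K W] [FiniteDimensional K W]

/-- The property that the plane element fixes what its involution fixes. -/
def FixMemProp (ρ : H →* Module.End K W) (r : ℕ) (C Z : Subgroup H) (m : ℕ) (μ : H → K) : Prop :=
  ∀ (z : H), z ^ 2 ^ (m + 1) = 1 → ∑ i ∈ Finset.range (2 ^ (m + 1)), ρ z ^ i = 0 →
    ∀ (M : Subgroup H), M ≤ C → (∀ x ∈ C, x ∈ M ↔ ∀ y ∈ C, μ ⁅x, y⁆ = 1) →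
    ∀ (j k : ℕ), 2 ≤ k → r + 1 = 2 ^ k → j + (k - 1) = m →
    (∀ c ∈ Z, μ (z ^ 2 ^ j * c * (z ^ 2 ^ j)⁻¹) = μ c) →
    ∀ (R₂ : Subgroup H), R₂ ≤ C →
    (∀ x ∈ C, x ∈ R₂ ↔ x * (z ^ 2 ^ m * x * (z ^ 2 ^ m)⁻¹) ∈ M) → M.relIndex R₂ = r ^ 2 →
    ∀ x ∈ C, x⁻¹ * (z ^ 2 ^ m * x * (z ^ 2 ^ m)⁻¹) ∈ M →
      x⁻¹ * (z ^ 2 ^ j * x * (z ^ 2 ^ j)⁻¹) ∈ M

variable {G : Type u} [Group G] [Finite G]

theorem exists_section_leaves (ρ : H →* Module.End K W) (hρ : Function.Injective ρ) {r : ℕ}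
    [Fact r.Prime] (hr2 : r ≠ 2) (C Z : Subgroup H) [C.Normal] [Z.Normal] (hC : IsPGroup r C)
    (hcom : ∀ x ∈ C, ∀ y ∈ C, ⁅x, y⁆ ∈ Z) (hZC : Z ≤ C)
    (hZc : Z ≤ Subgroup.centralizer (C : Set H)) (hpow : ∀ x ∈ C, x ^ r ∈ Z) (m : ℕ)
    (hexp : ∀ (z : H) (b : ℕ), z ^ 2 ^ b = 1 → z ^ 2 ^ (m + 1) = 1)
    (hdef : ∀ (z : H) (b : ℕ), z ^ 2 ^ b = 1 → ∑ i ∈ Finset.range (2 ^ (m + 1)), ρ z ^ i = 0)
    (μ : H → K) {v : W} (hv : v ≠ 0) (hμ : ∀ c ∈ Z, ρ c v = μ c • v)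
    (hfixmem : FixMemProp ρ r C Z m μ)
    (ι : G →* H) (T : Subgroup G) (hT : IsPGroup 2 T) :
    ∃ 𝓛 : Set (Subgroup G × Subgroup G), (∀ p ∈ 𝓛, IsLeafPair T m p.1 p.2) ∧
      ∀ t, (∀ p ∈ 𝓛, t ∈ p.2) → (∀ c ∈ Z, μ (ι t * c * (ι t)⁻¹) = μ c) ∧
        ∀ x ∈ C, ∀ y ∈ C, μ ⁅x⁻¹ * (ι t * x * (ι t)⁻¹), y⁆ = 1 := by
  classical
  have hnC : ∀ g : H, g ∈ Subgroup.normalizer (C : Set H) := fun g => by
    rw [Subgroup.normalizer_eq_top]; trivial
  have hnZ : ∀ g : H, g ∈ Subgroup.normalizer (Z : Set H) := fun g => by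
    rw [Subgroup.normalizer_eq_top]; trivial
  have hcent : ∀ c ∈ Z, ∀ x ∈ C, Commute (ρ c) (ρ x) := fun c hc x hx =>
    (show Commute c x from (Subgroup.mem_centralizer_iff.mp (hZc hc) x hx).symm).map ρ
  obtain ⟨M, hMC, hMmem, -⟩ := exists_plane ρ Fact.out hr2 C Z hC 1 m (one_pow _) (hnC 1) (hnZ 1)
    (hdef 1 0 (one_pow _)) hcom hcent μ hv hμ
  have hμmul : ∀ a ∈ Z, ∀ b ∈ Z, μ (a * b) = μ a * μ b := fun a ha b hb => by
    apply smul_left_injective K hv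
    show μ (a * b) • v = (μ a * μ b) • v
    rw [← hμ _ (mul_mem ha hb), map_mul, Module.End.mul_apply, hμ b hb, map_smul, hμ a ha,
      smul_smul, mul_comm]
  have hμ1 : μ 1 = 1 := by
    apply smul_left_injective K hv
    show μ 1 • v = (1 : K) • v
    rw [← hμ 1 (one_mem Z), map_one, one_smul]; rfl
  let Γ' : Subgroup H :=
    { carrier := {g | ∀ c ∈ Z, μ (g * c * g⁻¹) = μ c}
      one_mem' := fun c _ => by rw [one_mul, inv_one, mul_one]
      mul_mem' := fun {a b} ha hb c hc => by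
        rw [show a * b * c * (a * b)⁻¹ = a * (b * c * b⁻¹) * a⁻¹ by group,
          ha _ (conj_mem (hnZ b) hc), hb c hc]
      inv_mem' := fun {a} ha c hc => by
        have h := ha _ (conj_mem (hnZ a⁻¹) hc)
        rw [show a * (a⁻¹ * c * a⁻¹⁻¹) * a⁻¹ = c by group] at h
        exact h.symm }
  have hΓM : Γ' ≤ Subgroup.normalizer (M : Set H) := fun g hg => mem_norm fun x hx => by
    rw [hMmem _ (conj_mem (hnC g) (hMC hx))]
    intro y hy
    have hy' : g⁻¹ * y * g⁻¹⁻¹ ∈ C := conj_mem (hnC g⁻¹) hy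
    rw [show ⁅g * x * g⁻¹, y⁆ = g * ⁅x, g⁻¹ * y * g⁻¹⁻¹⁆ * g⁻¹ by
      simp only [commutatorElement_def]; group, hg _ (hcom x (hMC hx) _ hy')]
    exact (hMmem x (hMC hx)).mp hx _ hy'
  have hcM : ∀ c ∈ Z, c ∈ M := fun c hc => (hMmem c (hZC hc)).mpr fun y hy => by
    rw [show ⁅c, y⁆ = 1 from commutatorElement_eq_one_iff_commute.mpr
      (Subgroup.mem_centralizer_iff.mp (hZc hc) y hy).symm, hμ1]
  obtain ⟨n, act, d, hsurj, hdmul, hd0, hact⟩ := exists_section C M Γ' (r := r)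
    (fun x hx y hy => hcM _ (hcom x hx y hy)) hMC (fun x hx => hcM _ (hpow x hx))
    (fun g _ => hnC g) hΓM
  have hd1 : d 1 = 0 := (hd0 1).mpr (one_mem M)
  have hdinv : ∀ x, d x⁻¹ = - d x := fun x => by
    rw [eq_neg_iff_add_eq_zero, ← hdmul, inv_mul_cancel, hd1]
  -- the pairing
  have hcz : ∀ {c : H}, c ∈ Z → ∀ x ∈ C, x * c * x⁻¹ = c := fun {c} hc x hx => by
    rw [Subgroup.mem_centralizer_iff.mp (hZc hc) x hx, mul_inv_cancel_right]
  have hl : ∀ x x' y : C,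
      μ ⁅((x * x' : C) : H), (y : H)⁆ = μ ⁅(x : H), (y : H)⁆ * μ ⁅(x' : H), (y : H)⁆ := by
    intro x x' y
    rw [Subgroup.coe_mul, show ⁅(x : H) * x', (y : H)⁆ = x * ⁅(x' : H), (y : H)⁆ * (x : H)⁻¹ *
      ⁅(x : H), (y : H)⁆ by simp only [commutatorElement_def]; group,
      hcz (hcom _ x'.2 _ y.2) _ x.2, hμmul _ (hcom _ x'.2 _ y.2) _ (hcom _ x.2 _ y.2), mul_comm]
  have hskew : ∀ x y : C, μ ⁅(y : H), (x : H)⁆ * μ ⁅(x : H), (y : H)⁆ = 1 := fun x y => by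
    rw [← hμmul _ (hcom _ y.2 _ x.2) _ (hcom _ x.2 _ y.2), ← commutatorElement_inv (x : H) (y : H),
      inv_mul_cancel, hμ1]
  have hwd : ∀ x x' y : C, d x = d x' → μ ⁅(x : H), (y : H)⁆ = μ ⁅(x' : H), (y : H)⁆ := by
    intro x x' y h
    have hM : ((x⁻¹ * x' : C) : H) ∈ M := by
      rw [← hd0, hdmul, ← h, hdinv, neg_add_cancel]
    have h1 := hl x (x⁻¹ * x') y
    rw [mul_inv_cancel_left, (hMmem _ (x⁻¹ * x').2).mp hM y y.2, mul_one] at h1
    exact h1.symm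
  have hwdr : ∀ x x' y : C, d x = d x' → μ ⁅(y : H), (x : H)⁆ = μ ⁅(y : H), (x' : H)⁆ := by
    intro x x' y h
    have h1 := hskew x y
    rw [hwd x x' y h] at h1
    exact mul_right_cancel₀ (right_ne_zero_of_mul_eq_one (hskew x' y)) (h1.trans (hskew x' y).symm)
  let si := Function.surjInv hsurj
  have hsi : ∀ a, d (si a) = a := Function.surjInv_eq hsurj
  let b : (Fin n → ZMod r) → (Fin n → ZMod r) → K := fun a a' => μ ⁅(si a : H), (si a' : H)⁆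
  have hb : ∀ x y : C, b (d x) (d y) = μ ⁅(x : H), (y : H)⁆ := fun x y => by
    show μ ⁅(si (d x) : H), (si (d y) : H)⁆ = _
    rw [hwd _ x _ (hsi _), hwdr _ y x (hsi _)]
  let F : PairingForm r K (Fin n → ZMod r) :=
    { b := b
      add_left := fun a a' a'' => by
        rw [← hsi a, ← hsi a', ← hsi a'', ← hdmul, hb, hb, hb, hl]
      add_right := fun a a' a'' => by
        rw [← hsi a, ← hsi a', ← hsi a'', ← hdmul, hb, hb, hb]
        have h1 := hskew (si a' * si a'') (si a)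
        rw [hl] at h1
        have h2 : (μ ⁅(si a : H), (si a' : H)⁆ * μ ⁅(si a : H), (si a'' : H)⁆) *
            (μ ⁅(si a' : H), (si a : H)⁆ * μ ⁅(si a'' : H), (si a : H)⁆) = 1 := by
          rw [mul_mul_mul_comm, hskew (si a') (si a), hskew (si a'') (si a), one_mul]
        exact mul_right_cancel₀ (right_ne_zero_of_mul_eq_one h2) (h1.trans h2.symm)
      self := fun a => by
        show μ ⁅(si a : H), (si a : H)⁆ = 1
        rw [commutatorElement_self, hμ1]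
      ne_zero := fun a a' => right_ne_zero_of_mul_eq_one (hskew (si a) (si a'))
      nondeg := fun a ha => by
        rw [← hsi a, hd0]
        refine (hMmem _ (si a).2).mpr fun y hy => ?_
        have := ha (d ⟨y, hy⟩)
        rwa [← hsi a, hb] at this }
  -- the operators
  let gle := LinearMap.GeneralLinearGroup.generalLinearEquiv (ZMod r) (Fin n → ZMod r)
  let π : G → (Fin n → ZMod r) ≃ₗ[ZMod r] (Fin n → ZMod r) := fun g =>
    if h : ι g ∈ Γ' then gle (act.toHomUnits ⟨ι g, h⟩) else 1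
  set Γ := Γ'.comap ι
  have hπd : ∀ g (hg : g ∈ Γ) (x : C), π g (d x) =
      d ⟨ι g * x * (ι g)⁻¹, conj_mem (hnC (ι g)) x.2⟩ := fun g hg x => by
    have hg' : ι g ∈ Γ' := hg
    simp only [π, dif_pos hg']
    exact hact ⟨ι g, hg'⟩ x
  have hext : ∀ p q : (Fin n → ZMod r) ≃ₗ[ZMod r] (Fin n → ZMod r),
      (∀ x : C, p (d x) = q (d x)) → p = q := fun p q h => LinearEquiv.ext fun a => by
    rw [← hsi a]; exact h _
  have hπ : ∀ x ∈ Γ, ∀ y ∈ Γ, π (x * y) = π x * π y := fun x hx y hy => hext _ _ fun c => by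
    rw [LinearEquiv.mul_apply, hπd _ (mul_mem hx hy), hπd y hy, hπd x hx]
    congr 1
    apply Subtype.ext
    show ι (x * y) * c * (ι (x * y))⁻¹ = ι x * (ι y * c * (ι y)⁻¹) * (ι x)⁻¹
    rw [map_mul]; group
  have hiso : ∀ g ∈ Γ, π g ∈ F.iso := fun g hg a a' => by
    show b (π g a) (π g a') = b a a'
    rw [← hsi a, ← hsi a', hπd g hg, hπd g hg, hb, hb]
    rw [show ⁅ι g * (si a : H) * (ι g)⁻¹, ι g * (si a' : H) * (ι g)⁻¹⁆ =
      ι g * ⁅(si a : H), (si a' : H)⁆ * (ι g)⁻¹ by simp only [commutatorElement_def]; group]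
    exact hg _ (hcom _ (si a).2 _ (si a').2)
  obtain ⟨j, k, hjk, hk'⟩ : ∃ j k : ℕ, j + (k - 1) = m ∧
      ∀ j' k', 2 ≤ k' → r + 1 = 2 ^ k' → j' + (k' - 1) = m → k = k' ∧ j = j' := by
    by_cases h : ∃ j' k', 2 ≤ k' ∧ r + 1 = 2 ^ k' ∧ j' + (k' - 1) = m
    · obtain ⟨j, k, -, hrk, hjk⟩ := h
      refine ⟨j, k, hjk, fun j' k' _ hrk' hjk' => ?_⟩
      have := Nat.pow_right_injective le_rfl (hrk.symm.trans hrk')
      omega
    · exact ⟨m, 1, by omega, fun j' k' h1 h2 h3 => absurd ⟨j', k', h1, h2, h3⟩ h⟩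
  have hpure : ∀ (h : G) (b : ℕ), h ^ 2 ^ b = 1 → h ^ 2 ^ m ∈ Γ ∧
      (π (h ^ 2 ^ m) = 1 ∨ h ^ 2 ^ j ∈ Γ ∧ Pure F k (π (h ^ 2 ^ j))) := by
    intro h c hc
    have hcι : ι h ^ 2 ^ c = 1 := by rw [← map_pow, hc, map_one]
    have hz := hexp _ c hcι
    have hdz := hdef _ c hcι
    have hZcomm : ∀ a ∈ Z, ∀ b ∈ Z, Commute a b := fun a ha b hb =>
      Subgroup.mem_centralizer_iff.mp (hZc hb) a (hZC ha)
    have hτΓ : h ^ 2 ^ m ∈ Γ := by
      show ι (h ^ 2 ^ m) ∈ Γ'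
      intro x hx
      rw [map_pow, tau_fix ρ hρ hz hdz Z (hnZ _) hZcomm (odd_card hr2 (hC.to_le hZC)) x hx]
    refine ⟨hτΓ, ?_⟩
    obtain ⟨M', hM'C, hM', hcases⟩ := exists_plane ρ Fact.out hr2 C Z hC (ι h) m hz (hnC _) (hnZ _)
      hdz hcom hcent μ hv hμ
    obtain rfl : M' = M := SetLike.ext fun x =>
      ⟨fun hx => (hMmem x (hM'C hx)).mpr ((hM' x (hM'C hx)).mp hx),
        fun hx => (hM' x (hMC hx)).mpr ((hMmem x (hMC hx)).mp hx)⟩
    rcases hcases with htriv | ⟨j', k', R₂, hk, hrk, hjk', hμj, hR₂C, hR₂, hidx⟩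
    · refine Or.inl (hext _ _ fun x => ?_)
      rw [hπd _ hτΓ, show (1 : (Fin n → ZMod r) ≃ₗ[ZMod r] (Fin n → ZMod r)) (d x) = d x from rfl,
        ← sub_eq_zero, sub_eq_add_neg, ← hdinv, add_comm, ← hdmul, hd0]
      show (x : H)⁻¹ * (ι (h ^ 2 ^ m) * x * (ι (h ^ 2 ^ m))⁻¹) ∈ M'
      rw [map_pow]
      exact htriv x x.2
    obtain ⟨rfl, rfl⟩ := hk' j' k' hk hrk hjk'
    have hjΓ : h ^ 2 ^ j ∈ Γ := by
      show ι (h ^ 2 ^ j) ∈ Γ'
      rw [map_pow]; exact hμj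
    refine Or.inr ⟨hjΓ, ?_⟩
    set a := π (h ^ 2 ^ j)
    have hπ1 : π 1 = 1 := (partHom π hπ Γ le_rfl).map_one
    have hapow : ∀ l : ℕ, a ^ l = π ((h ^ 2 ^ j) ^ l) := fun l =>
      ((partHom π hπ Γ le_rfl).map_pow ⟨_, hjΓ⟩ l).symm
    have hτ : a ^ 2 ^ (k - 1) = π (h ^ 2 ^ m) := by
      rw [hapow, ← pow_mul, ← pow_add, hjk]
    have hτd : ∀ x : C, (a ^ 2 ^ (k - 1)) (d x) =
        d ⟨ι (h ^ 2 ^ m) * x * (ι (h ^ 2 ^ m))⁻¹, conj_mem (hnC _) x.2⟩ := fun x => by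
      rw [hτ, hπd _ hτΓ]
    refine ⟨hk, hrk, hiso _ hjΓ, ?_, ?_, fun a' ha' => ?_⟩
    · rw [show 2 ^ k = 2 ^ (k - 1) * 2 by rw [← pow_succ, show k - 1 + 1 = k by omega], pow_mul, hτ,
        sq, ← hπ _ hτΓ _ hτΓ, ← pow_add, ← two_mul, ← pow_succ']
      rw [show h ^ 2 ^ (m + 1) = (h ^ 2 ^ j) ^ 2 ^ k by
        rw [← pow_mul, ← pow_add]; congr 2; omega]
      refine hext _ _ fun x => ?_
      rw [hπd _ (pow_mem hjΓ _)]
      show d _ = d x
      congr 1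
      apply Subtype.ext
      show ι ((h ^ 2 ^ j) ^ 2 ^ k) * x * (ι ((h ^ 2 ^ j) ^ 2 ^ k))⁻¹ = x
      rw [map_pow, map_pow, ← pow_mul, ← pow_add, show j + k = m + 1 by omega, hz]
      group
    · let R' : Subgroup C := R₂.subgroupOf C
      have hker : ∀ x : C, d x ∈ plane k a ↔ x ∈ R' := by
        intro x
        rw [mem_plane, hτd, eq_neg_iff_add_eq_zero, add_comm, ← hdmul, hd0]
        show (x : H) * (ι (h ^ 2 ^ m) * x * (ι (h ^ 2 ^ m))⁻¹) ∈ M' ↔ (x : H) ∈ R₂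
        rw [map_pow]
        exact (hR₂ x x.2).symm
      let ψ : R' →* Multiplicative (plane k a) :=
        MonoidHom.mk' (fun x => Multiplicative.ofAdd ⟨d (x : C), (hker _).mpr x.2⟩) fun x y => by
          rw [← ofAdd_add]
          exact congrArg Multiplicative.ofAdd (Subtype.ext (hdmul _ _))
      have hψ : Function.Surjective ψ := by
        intro p
        obtain ⟨x, hx⟩ := hsurj (Multiplicative.toAdd p : plane k a)
        exact ⟨⟨x, (hker x).mp (hx ▸ (Multiplicative.toAdd p : plane k a).2)⟩,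
          congrArg Multiplicative.ofAdd (Subtype.ext hx)⟩
      have hψker : ψ.ker = (M'.subgroupOf C).subgroupOf R' := by
        ext x
        rw [MonoidHom.mem_ker, Subgroup.mem_subgroupOf, Subgroup.mem_subgroupOf, ← hd0]
        exact Iff.intro (fun h => congrArg (fun a : plane k a => (a : Fin n → ZMod r))
          (congrArg Multiplicative.toAdd h)) fun h => congrArg Multiplicative.ofAdd (Subtype.ext h)
      have hcard : Nat.card (plane k a) = r ^ 2 := by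
        rw [← hidx, ← Subgroup.relIndex_subgroupOf (H := M') hR₂C]
        show _ = ((M'.subgroupOf C).subgroupOf R').index
        rw [← hψker, Subgroup.index_ker, MonoidHom.range_eq_top.mpr hψ, Subgroup.card_top]
        exact Nat.card_congr Multiplicative.ofAdd
      rw [Module.natCard_eq_pow_finrank (K := ZMod r), Nat.card_zmod] at hcard
      exact Nat.pow_right_injective (Fact.out : r.Prime).two_le hcard
    · obtain ⟨x, rfl⟩ := hsurj a'
      rw [hτd, ← sub_eq_zero, sub_eq_add_neg, ← hdinv, add_comm, ← hdmul, hd0] at ha'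
      have h1 := hfixmem (ι h) hz hdz M' hMC hMmem j k hk hrk hjk hμj R₂ hR₂C hR₂ hidx x x.2 (by
        simpa [map_pow] using ha')
      rw [hπd _ hjΓ, ← sub_eq_zero, sub_eq_add_neg, ← hdinv, add_comm, ← hdmul, hd0]
      simpa [map_pow] using h1
  obtain ⟨𝓛, h𝓛, hfaith⟩ := exists_leaf_pairs hr2 T hT hjk Γ π hπ hiso hpure
  refine ⟨𝓛, h𝓛, fun t ht => ?_⟩
  obtain ⟨htΓ, htπ⟩ := hfaith t ht
  refine ⟨htΓ, fun x hx y hy => ?_⟩
  have h1 := hπd t htΓ ⟨x, hx⟩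
  rw [htπ] at h1
  have h2 : d ⟨x⁻¹ * (ι t * x * (ι t)⁻¹), mul_mem (inv_mem hx) (conj_mem (hnC _) hx)⟩ = 0 := by
    rw [show (⟨x⁻¹ * (ι t * x * (ι t)⁻¹), mul_mem (inv_mem hx) (conj_mem (hnC _) hx)⟩ : C) =
      (⟨x, hx⟩ : C)⁻¹ * ⟨ι t * x * (ι t)⁻¹, conj_mem (hnC _) hx⟩ from rfl, hdmul, ← h1, hdinv]
    exact neg_add_cancel _
  exact (hMmem _ (mul_mem (inv_mem hx) (conj_mem (hnC _) hx))).mp ((hd0 _).mp h2) y hy

end H51.Bryu
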